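import Groth.Agent.Lib.AR.Adic

/-!
# Systems adic up to translation
-/

universe w v u

open CategoryTheory CategoryTheory.Limits Opposite ARSys

namespace Groth.Agent.Lib.AR

attribute [local instance] Abelian.hasFiniteBiproducts

section Helpers

variable {C : Type u} [Category.{v} C] [Abelian C] {K : Type*} [Category K]

lemma exists_lift_app {S : ShortComplex (K ⥤ C)} (h : S.Exact) [Mono S.f] (j : K) {P : C}
    (k : P ⟶ S.X₂.obj j) (h0 : k ≫ S.g.app j = 0) : ∃ l : P ⟶ S.X₁.obj j, l ≫ S.f.app j = k := by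
  have := mono_app S.f j
  exact ⟨(exact_app h j).lift k h0, (exact_app h j).lift_f k h0⟩

lemma exists_kernel_lift_app {X Y : K ⥤ C} (f : X ⟶ Y) (j : K) {P : C} (k : P ⟶ X.obj j)
    (h0 : k ≫ f.app j = 0) : ∃ l : P ⟶ (kernel f).obj j, l ≫ (kernel.ι f).app j = k :=
  exists_lift_app (S := ShortComplex.mk (kernel.ι f) f (kernel.condition f))
    (ShortComplex.exact_of_f_is_kernel _ (kernelIsKernel f)) j k h0

lemma shortExact_cokernel {X Y : K ⥤ C} (f : X ⟶ Y) [Mono f] :
    (ShortComplex.mk f (cokernel.π f) (cokernel.condition f)).ShortExact where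
  exact := ShortComplex.exact_of_g_is_cokernel _ (cokernelIsCokernel f)

lemma shortExact_kernel {X Y : K ⥤ C} (f : X ⟶ Y) [Epi f] :
    (ShortComplex.mk (kernel.ι f) f (kernel.condition f)).ShortExact where
  exact := ShortComplex.exact_of_f_is_kernel _ (kernelIsKernel f)

lemma biprod_app_hom_ext {X Y : K ⥤ C} {j : K} {T : C} {a b : T ⟶ (X ⊞ Y).obj j}
    (h₁ : a ≫ (biprod.fst : X ⊞ Y ⟶ X).app j = b ≫ (biprod.fst : X ⊞ Y ⟶ X).app j)
    (h₂ : a ≫ (biprod.snd : X ⊞ Y ⟶ Y).app j = b ≫ (biprod.snd : X ⊞ Y ⟶ Y).app j) : a = b := by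
  have e := congrArg (fun t : X ⊞ Y ⟶ X ⊞ Y => t.app j) (biprod.total (X := X) (Y := Y))
  simp only [NatTrans.app_add, NatTrans.comp_app, NatTrans.id_app] at e
  rw [← Category.comp_id a, ← Category.comp_id b, ← e]
  simp only [Preadditive.comp_add, ← Category.assoc, h₁, h₂]

lemma epi_of_imLE {C : Type u} [Category.{v} C] [Abelian C] {P Q X : C} {f : P ⟶ X} [Epi f]
    {g : Q ⟶ X} (h : ImLE f g) : Epi g :=
  Abelian.epi_of_cokernel_π_eq_zero g ((cancel_epi f).1 (Eq.trans h comp_zero.symm))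

end Helpers

variable {C : Type u} [Category.{v} C] [Abelian C] {A : Type w} [CommRing A] [Linear A C]
  {J : Ideal A}

lemma killedBy_biprod_app {I : Ideal A} {X Y : PS C} {n : ℕ} (hX : KilledBy I (X.obj (op n)))
    (hY : KilledBy I (Y.obj (op n))) : KilledBy I ((X ⊞ Y).obj (op n)) := fun a ha => by
  refine biprod_app_hom_ext ?_ ?_ <;>
  · rw [zero_comp, Linear.smul_comp, Category.id_comp]
    first | exact killedBy_smul_eq_zero hX ha _ | exact killedBy_smul_eq_zero hY ha _

section ShortExact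

variable {S : ShortComplex (PS C)}

lemma isARAdic_X₃ (hS : S.ShortExact) (k₃ : TermKilled J S.X₃) (h₁ : IsMLAR S.X₁)
    (h₂ : IsARAdic J S.X₂) : IsARAdic J S.X₃ := by
  have := hS.epi_g
  have := hS.mono_f
  have hf := fun k => mono_app S.f (op k)
  have hg := fun k => epi_app S.g (op k)
  obtain ⟨-, Y, u, hY, hu⟩ := h₂
  obtain ⟨r, ⟨i⟩⟩ := exists_inv_of_isARIso hu
  let ι := kernel.ι (u ≫ S.g)
  have hι := fun k => mono_app ι (op k)
  let φ : kernel (u ≫ S.g) ⟶ S.X₁ := hS.exact.lift (ι ≫ u) (by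
    rw [Category.assoc]; exact kernel.condition _)
  have hφ : ∀ n, φ.app (op n) ≫ S.f.app (op n) = ι.app (op n) ≫ u.app (op n) := fun n =>
    congrArg (fun t => NatTrans.app t (op n)) (hS.exact.lift_f (ι ≫ u) _)
  have hzero : ∀ n, S.f.app (op (n + r)) ≫ i.v n ≫ u.app (op n) ≫ S.g.app (op n) = 0 := fun n => by
    rw [i.vu_assoc, tr_app_assoc, ← NatTrans.comp_app, S.zero, zero_app, comp_zero]
  have hl : ∀ n, ∃ l, l ≫ ι.app (op n) = S.f.app (op (n + r)) ≫ i.v n := fun n => by
    refine exists_kernel_lift_app (u ≫ S.g) (op n) _ ?_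
    rw [NatTrans.comp_app, Category.assoc, hzero]
  choose l hl using hl
  have hφiso : IsARIso φ := HasInv.isARIso ⟨r, fun n => ⟨l n, by
      rw [← cancel_mono (S.f.app (op n)), Category.assoc, hφ, ← Category.assoc, hl, Category.assoc,
        i.vu, tr_app], by
      rw [← cancel_mono (ι.app (op n)), Category.assoc, hl, ← Category.assoc, hφ, Category.assoc,
        i.uv, tr_app]⟩⟩
  obtain ⟨P', κ, hκmono, hP', hκ⟩ :=
    exists_strict_mono_isARIso ((isMLAR_iff_of_isARIso hφiso).2 h₁)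
  obtain ⟨s, ⟨j⟩⟩ := exists_inv_of_isARIso hκ
  let c := cokernel.π (κ ≫ ι)
  have hY₃ : IsAdic J (cokernel (κ ≫ ι)) := isAdic_X₃ (shortExact_cokernel (κ ≫ ι)) hP' hY
  let w : cokernel (κ ≫ ι) ⟶ S.X₃ := cokernel.desc _ (u ≫ S.g)
    (by rw [Category.assoc, kernel.condition, comp_zero])
  have hw : ∀ n, c.app (op n) ≫ w.app (op n) = u.app (op n) ≫ S.g.app (op n) := fun n =>
    congrArg (fun t => NatTrans.app t (op n)) (cokernel.π_desc (κ ≫ ι) (u ≫ S.g) _)
  have hv : ∀ n, ∃ d : S.X₃.obj (op (n + s + r)) ⟶ (cokernel (κ ≫ ι)).obj (op n),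
      S.g.app (op (n + s + r)) ≫ d = i.v (n + s) ≫ tr Y (Nat.le_add_right n s) ≫ c.app (op n) := by
    intro n
    refine exists_desc_app hS.exact (op (n + s + r)) _ ?_
    rw [← Category.assoc, ← hl, Category.assoc, tr_app_assoc, ← j.vu]
    simp only [Category.assoc]
    rw [← NatTrans.comp_app, ← NatTrans.comp_app, ← Category.assoc κ, cokernel.condition, zero_app,
      comp_zero, comp_zero]
  choose d hd using hv
  refine ⟨k₃, _, w, hY₃, HasInv.isARIso ⟨s + r, fun n => ⟨tr S.X₃ (show n + s + r ≤ n + (s + r) by omega) ≫ d n, ?_, ?_⟩⟩⟩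
  · rw [Category.assoc]
    have : d n ≫ w.app (op n) = tr S.X₃ (show n ≤ n + s + r by omega) := by
      have := hg (n + s + r)
      rw [← cancel_epi (S.g.app (op (n + s + r))), ← Category.assoc, hd, tr_app]
      simp only [Category.assoc, hw]
      rw [← tr_app_assoc, i.vu_assoc, tr_comp_assoc]
    rw [this, tr_comp]
  · have key : w.app (op (n + s + r)) ≫ d n = tr (cokernel (κ ≫ ι)) (show n ≤ n + s + r by omega) := by
      have := epi_app c (op (n + s + r))
      rw [← cancel_epi (c.app (op (n + s + r))), ← Category.assoc, hw, Category.assoc, hd,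
        i.uv_assoc, tr_comp_assoc, tr_app]
    rw [tr_app_assoc, key, tr_comp]

lemma isMLAR_X₁ (hS : S.ShortExact) (k₂ : TermKilled J S.X₂) (h₂ : IsMLAR S.X₂)
    (h₃ : IsARAdic J S.X₃) : IsMLAR S.X₁ := by
  have := hS.epi_g
  have := hS.mono_f
  have hf := fun k => mono_app S.f (op k)
  have hg := fun k => epi_app S.g (op k)
  obtain ⟨-, Z, w, hZ, hw⟩ := h₃
  obtain ⟨r, ⟨i⟩⟩ := exists_inv_of_isARIso hw
  let D := biprod.desc S.g (-w)
  let ι := kernel.ι D
  have hι := fun k => mono_app ι (op k)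
  let e : kernel D ⟶ S.X₂ := ι ≫ biprod.fst
  let q : kernel D ⟶ Z := ι ≫ biprod.snd
  have hrel : e ≫ S.g = q ≫ w := by
    have h : ι ≫ D = 0 := kernel.condition D
    simp only [D, biprod.desc_eq, Preadditive.comp_add, Preadditive.comp_neg] at h
    simpa [e, q, Category.assoc] using eq_neg_of_add_eq_zero_left h
  have hrel' : ∀ n, e.app (op n) ≫ S.g.app (op n) = q.app (op n) ≫ w.app (op n) := fun n =>
    congrArg (fun t => NatTrans.app t (op n)) hrel
  have hlift : ∀ n {T : C} (a : T ⟶ S.X₂.obj (op n)) (b : T ⟶ Z.obj (op n)),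
      a ≫ S.g.app (op n) = b ≫ w.app (op n) →
        ∃ l, l ≫ e.app (op n) = a ∧ l ≫ q.app (op n) = b := by
    intro n T a b hab
    let k : T ⟶ (S.X₂ ⊞ Z).obj (op n) :=
      a ≫ (biprod.inl : _ ⟶ S.X₂ ⊞ Z).app (op n) + b ≫ (biprod.inr : _ ⟶ S.X₂ ⊞ Z).app (op n)
    have h1 : k ≫ D.app (op n) = 0 := by
      simp only [k, D, Preadditive.add_comp, Category.assoc, ← NatTrans.comp_app, biprod.inl_desc,
        biprod.inr_desc, NatTrans.app_neg, Preadditive.comp_neg, hab, add_neg_cancel]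
    obtain ⟨l, hl⟩ := exists_kernel_lift_app D (op n) k h1
    refine ⟨l, ?_, ?_⟩
    · show l ≫ ι.app (op n) ≫ (biprod.fst : S.X₂ ⊞ Z ⟶ _).app (op n) = a
      rw [← Category.assoc, hl]
      simp only [k, Preadditive.add_comp, Category.assoc, ← NatTrans.comp_app, biprod.inl_fst,
        biprod.inr_fst, NatTrans.id_app, zero_app, comp_zero, add_zero, Category.comp_id]
    · show l ≫ ι.app (op n) ≫ (biprod.snd : S.X₂ ⊞ Z ⟶ _).app (op n) = b
      rw [← Category.assoc, hl]
      simp only [k, Preadditive.add_comp, Category.assoc, ← NatTrans.comp_app, biprod.inl_snd,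
        biprod.inr_snd, NatTrans.id_app, zero_app, comp_zero, zero_add, Category.comp_id]
  have hext : ∀ n {T : C} (a b : T ⟶ (kernel D).obj (op n)), a ≫ e.app (op n) = b ≫ e.app (op n) →
      a ≫ q.app (op n) = b ≫ q.app (op n) → a = b := by
    intro n T a b h1 h2
    rw [← cancel_mono (ι.app (op n))]
    exact biprod_app_hom_ext (by simpa [e] using h1) (by simpa [q] using h2)
  have hev : ∀ n, ∃ l : S.X₂.obj (op (n + r)) ⟶ (kernel D).obj (op n),
      l ≫ e.app (op n) = tr S.X₂ (Nat.le_add_right n r) ∧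
        l ≫ q.app (op n) = S.g.app (op (n + r)) ≫ i.v n := fun n =>
    hlift n _ _ (by rw [Category.assoc, i.vu, tr_app])
  choose ev hev₁ hev₂ using hev
  have he : IsARIso e := HasInv.isARIso ⟨r, fun n => ⟨ev n, hev₁ n, hext n _ _
    (by rw [Category.assoc, hev₁, tr_app])
    (by rw [Category.assoc, hev₂, ← Category.assoc, hrel', Category.assoc, i.uv, tr_app])⟩⟩
  obtain ⟨P', κ, hκmono, hP', hκ⟩ :=
    exists_strict_mono_isARIso ((isMLAR_iff_of_isARIso he).2 h₂)
  obtain ⟨s, ⟨j⟩⟩ := exists_inv_of_isARIso hκ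
  have hκ' := fun k => mono_app κ (op k)
  have hepi : ∀ n, Epi ((κ ≫ q).app (op n)) := fun n => by
    have := (isQuot_epi (hZ.2 n (n + s + r) (show n ≤ n + s + r by omega)))
    obtain ⟨T, π, hπ, y, hy⟩ :=
      surjective_up_to_refinements_of_epi (S.g.app (op (n + s + r))) (w.app (op (n + s + r)))
    obtain ⟨l, -, hl⟩ := hlift (n + s + r) y π hy.symm
    refine epi_of_imLE (f := tr Z (show n ≤ n + s + r by omega)) (ImLE.of_refinement π
      (l ≫ tr (kernel D) (show n + s ≤ n + s + r by omega) ≫ j.v n) ?_)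
    rw [NatTrans.comp_app]
    simp only [Category.assoc]
    rw [j.vu_assoc, tr_comp_assoc, ← tr_app, ← Category.assoc l, hl]
  have : Epi (κ ≫ q) := by
    have : ∀ k, Epi ((κ ≫ q).app k) := fun ⟨n⟩ => hepi n
    exact NatTrans.epi_of_epi_app _
  have hkP : TermKilled J P' := by
    refine termKilled_of_mono (fun n => ?_) (κ ≫ ι)
    exact killedBy_biprod_app (k₂ n) (hZ.1 n)
  have hK : IsStrict (kernel (κ ≫ q)) := isStrict_X₁ (shortExact_kernel (κ ≫ q)) hkP hP' hZ
  let ιK := kernel.ι (κ ≫ q)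
  have hιK := fun k => mono_app ιK (op k)
  let ψ : kernel (κ ≫ q) ⟶ S.X₁ := hS.exact.lift (ιK ≫ κ ≫ e) (by
    simp only [Category.assoc, hrel]
    simpa only [Category.assoc, zero_comp] using kernel.condition_assoc (κ ≫ q) w)
  have hψ : ∀ n, ψ.app (op n) ≫ S.f.app (op n) =
      ιK.app (op n) ≫ κ.app (op n) ≫ e.app (op n) := fun n =>
    congrArg (fun t => NatTrans.app t (op n)) (hS.exact.lift_f (ιK ≫ κ ≫ e) _)
  refine isMLAR_of_strict_isARIso (u := ψ) hK ?_
  have hvK : ∀ n, ∃ l, l ≫ ιK.app (op n) =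
      S.f.app (op (n + s + r)) ≫ ev (n + s) ≫ j.v n := fun n => by
    refine exists_kernel_lift_app (κ ≫ q) (op n) _ ?_
    rw [NatTrans.comp_app]
    simp only [Category.assoc]
    rw [j.vu_assoc, ← tr_app, ← Category.assoc (ev _), hev₂]
    simp only [← Category.assoc]
    rw [← NatTrans.comp_app, S.zero]
    simp
  choose vK hvK using hvK
  refine HasInv.isARIso ⟨s + r, fun n => ⟨tr S.X₁ (show n + s + r ≤ n + (s + r) by omega) ≫ vK n, ?_, ?_⟩⟩
  · rw [← cancel_mono (S.f.app (op n))]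
    simp only [Category.assoc, hψ]
    rw [← Category.assoc (vK n), hvK]
    simp only [Category.assoc]
    rw [j.vu_assoc, ← tr_app, ← Category.assoc (ev _), hev₁, tr_comp, tr_app, tr_comp_assoc]
  · rw [tr_app_assoc]
    have key : ψ.app (op (n + s + r)) ≫ vK n = tr (kernel (κ ≫ q)) (show n ≤ n + s + r by omega) := by
      rw [← cancel_mono (ιK.app (op n)), Category.assoc, hvK, ← Category.assoc (ψ.app _), hψ,
        ← cancel_mono (κ.app (op n))]
      simp only [Category.assoc]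
      rw [j.vu, ← tr_app_assoc]
      have h2 : e.app (op (n + s + r)) ≫ ev (n + s) = tr (kernel D) (Nat.le_add_right (n + s) r) :=
        hext _ _ _ (by rw [Category.assoc, hev₁, tr_app])
          (by rw [Category.assoc, hev₂, ← Category.assoc, hrel', Category.assoc, i.uv, tr_app])
      rw [reassoc_of% h2, tr_comp, tr_app]
    rw [key, tr_comp]

end ShortExact

section Criterion

variable {X Y : PS C}

/-- For a strict system, an adic source of an isomorphism up to translation is a quotient of a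
translate. -/
lemma isQuot_inv {u : Y ⟶ X} (hX : IsStrict X) (hY : IsAdic J Y) {r : ℕ} (i : Inv u r) (n : ℕ) :
    IsQuot (J ^ (n + 1)) (i.v n) := by
  have hu : Epi (u.app (op (n + r))) := by
    have := hX (n + r) (n + r + r) (Nat.le_add_right _ r)
    have : Epi (i.v (n + r) ≫ u.app (op (n + r))) := by rw [i.vu]; infer_instance
    exact epi_of_epi (i.v (n + r)) _
  have hq := hY.2 n (n + r) (Nat.le_add_right n r)
  have hv : Epi (i.v n) := by
    have := isQuot_epi hq
    have : Epi (u.app (op (n + r)) ≫ i.v n) := by rw [i.uv]; infer_instance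
    exact epi_of_epi (u.app (op (n + r))) _
  have := isQuot_epi hq
  refine ⟨hY.1 n, fun Z φ hφ => ⟨quotDesc hq (u.app (op (n + r)) ≫ φ) (homKilledBy_comp_left hφ _),
    ?_, fun ψ hψ => ?_⟩⟩
  · show i.v n ≫ _ = φ
    rw [← cancel_epi (u.app (op (n + r))), i.uv_assoc, quotDesc_fac]
  · rw [← cancel_epi (tr Y (Nat.le_add_right n r)), quotDesc_fac, ← i.uv, Category.assoc]
    exact congrArg (u.app (op (n + r)) ≫ ·) hψ

lemma isARAdic_iff_shift_quot (hX : IsStrict X) (kX : TermKilled J X) :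
    IsARAdic J X ↔ ∃ (r : ℕ) (Y : PS C) (q : (shift C r).obj X ⟶ Y),
      (∀ n : ℕ, IsQuot (J ^ (n + 1)) (q.app (op n))) ∧ IsAdic J Y := by
  constructor
  · rintro ⟨-, Y, u, hY, hu⟩
    obtain ⟨r, ⟨i⟩⟩ := exists_inv_of_isARIso hu
    exact ⟨r, Y, natMk i.v (fun n m h => i.nat n m h), fun n => isQuot_inv hX hY i n, hY⟩
  · rintro ⟨r, Y, q, hq, hY⟩
    let qn : ∀ n, X.obj (op (n + r)) ⟶ Y.obj (op n) := fun n => q.app (op n)
    have hqn : ∀ n, IsQuot (J ^ (n + 1)) (qn n) := hq
    have hnat : ∀ n m (h : n ≤ m), qn m ≫ tr Y h = tr X (Nat.add_le_add_right h r) ≫ qn n :=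
      fun n m h => tr_app q h
    let un : ∀ n, Y.obj (op n) ⟶ X.obj (op n) := fun n =>
      quotDesc (hqn n) (tr X (Nat.le_add_right n r)) (killedBy_hom_to (kX n) _)
    have hun : ∀ n, qn n ≫ un n = tr X (Nat.le_add_right n r) := fun n => quotDesc_fac _ _ _
    let u : Y ⟶ X := natMk un fun n m h => by
      have := isQuot_epi (hqn m)
      rw [← cancel_epi (qn m), ← Category.assoc, hun, ← Category.assoc, hnat, Category.assoc, hun,
        tr_comp, tr_comp]
    refine ⟨kX, Y, u, hY, HasInv.isARIso ⟨r, fun n => ⟨qn n, hun n, ?_⟩⟩⟩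
    have := isQuot_epi (hqn (n + r))
    show un (n + r) ≫ qn n = tr Y _
    rw [← cancel_epi (qn (n + r)), ← Category.assoc, hun, hnat]

lemma lei_Fker_of_inv (hX : IsStrict X) {u : Y ⟶ X} (hY : IsAdic J Y) {r : ℕ} (i : Inv u r)
    (n : ℕ) : SubLEIdeal (J ^ (n - (r + 1))) (Fker X n) := by
  intro Z φ hφ
  by_cases hn : n ≤ r + 1
  · rw [Nat.sub_eq_zero_of_le hn, pow_zero, Ideal.one_eq_top] at hφ
    rw [lei_top (Fker X n).arrow Z φ hφ]
  · obtain ⟨p, rfl⟩ : ∃ p, n = p + r + 2 := ⟨n - (r + 2), by omega⟩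
    have h2 : p + r + 2 - (r + 1) = p + 1 := by omega
    rw [h2] at hφ
    have hq : IsQuot (J ^ (p + 1)) (tr X (show p + r ≤ p + r + 2 by omega) ≫ i.v p) := by
      have e : tr X (show p + 2 + r ≤ p + r + 2 by omega) ≫ i.v (p + 2) ≫
          tr Y (show p ≤ p + 2 by omega) = tr X (show p + r ≤ p + r + 2 by omega) ≫ i.v p := by
        rw [i.nat, tr_comp_assoc]
      rw [← e]
      have hiso : IsIso (tr X (show p + 2 + r ≤ p + r + 2 by omega)) :=
        isIso_tr_of_eq X _ (by omega)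
      have := isQuot_comp (isQuot_inv hX hY i (p + 2)) (hY.2 p (p + 2) (by omega))
        (Ideal.pow_le_pow_right (by omega))
      exact isQuot_of_isIso_comp _ this
    have h0 : (Fker X (p + r + 2)).arrow ≫ tr X (show p + r ≤ p + r + 2 by omega) ≫ i.v p = 0 := by
      show (kernelSubobject (tr X (Nat.le_succ (p + r + 1)))).arrow ≫ _ = 0
      rw [← tr_comp X (show p + r ≤ p + r + 1 by omega) (Nat.le_succ (p + r + 1)), Category.assoc,
        kernelSubobject_arrow_comp_assoc, zero_comp]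
    rw [← quotDesc_fac hq φ hφ, ← Category.assoc, h0, zero_comp]

lemma lei_Fker_of_isARAdic (hX : IsStrict X) (h : IsARAdic J X) :
    ∃ r : ℕ, 0 < r ∧ ∀ n : ℕ, SubLEIdeal (J ^ (n - r)) (Fker X n) := by
  obtain ⟨-, Y, u, hY, hu⟩ := h
  obtain ⟨r, ⟨i⟩⟩ := exists_inv_of_isARIso hu
  exact ⟨r + 1, Nat.succ_pos r, fun n => lei_Fker_of_inv hX hY i n⟩

lemma isARAdic_of_lei_Fker (hJ : J.FG ∨ HasCoproducts.{w} C) (hX : IsStrict X)
    (kX : TermKilled J X) {r : ℕ} (h : ∀ n : ℕ, SubLEIdeal (J ^ (n - r)) (Fker X n)) :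
    IsARAdic J X := by
  choose Q q hq using fun n => exists_isQuot hJ (n + 1) (X.obj (op (n + r)))
  have hepi := fun n => isQuot_epi (hq n)
  have hk : ∀ {n m : ℕ}, n ≤ m → HomKilledBy (J ^ (m + 1)) (q n) := fun h =>
    homKilledBy_anti (isQuot_homKilledBy (hq _)) (Ideal.pow_le_pow_right (by omega))
  let Qmap : ∀ {n m : ℕ}, n ≤ m → (Q m ⟶ Q n) := fun {n m} h =>
    quotDesc (hq m) (tr X (Nat.add_le_add_right h r) ≫ q n) (homKilledBy_comp_left (hk h) _)
  have hQmap : ∀ {n m : ℕ} (h : n ≤ m), q m ≫ Qmap h = tr X (Nat.add_le_add_right h r) ≫ q n :=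
    fun _ => quotDesc_fac _ _ _
  let Y : PS C :=
    { obj := fun n => Q n.unop
      map := fun {a b} f => Qmap (leOfHom f.unop)
      map_id := fun a => by
        have := hepi a.unop
        rw [← cancel_epi (q a.unop), hQmap (le_refl a.unop), tr_self, Category.id_comp, Category.comp_id]
      map_comp := fun {a b c} f g => by
        have := hepi a.unop
        rw [← cancel_epi (q a.unop), hQmap (leOfHom (f ≫ g).unop), ← Category.assoc,
          hQmap (leOfHom f.unop), Category.assoc, hQmap (leOfHom g.unop), tr_comp_assoc] }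
  let qq : (shift C r).obj X ⟶ Y := natMk q fun n m hnm => hQmap hnm
  refine (isARAdic_iff_shift_quot hX kX).2 ⟨r, Y, qq, hq, fun n => (hq n).1, fun n m hnm => ?_⟩
  have key : ∀ k, (hk : n + r ≤ k) → ∀ {Z : C} (φ : X.obj (op k) ⟶ Z),
      HomKilledBy (J ^ (n + 1)) φ → kernel.ι (tr X hk) ≫ φ = 0 := by
    intro k hk
    induction k, hk using Nat.le_induction with
    | base =>
      intro Z φ _
      have h0 : kernel.ι (tr X (le_refl (n + r))) = 0 := by
        have := kernel.condition (tr X (le_refl (n + r)))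
        simpa using this
      rw [h0, zero_comp]
    | succ k hk ih =>
      intro Z φ hφ
      have h1 : kernel.ι (tr X (Nat.le_succ k)) ≫ φ = 0 := by
        have h' := h (k + 1) Z φ (homKilledBy_anti hφ (Ideal.pow_le_pow_right (by omega)))
        have hle : ImLE (kernel.ι (tr X (Nat.le_succ k))) (Fker X (k + 1)).arrow :=
          factors_iff.1 (kernelSubobject_factors _ _ (kernel.condition _))
        exact hle.comp_eq_zero h'
      have := hX k (k + 1) (Nat.le_succ k)
      let φ' := Abelian.epiDesc (tr X (Nat.le_succ k)) φ h1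
      have hφ' : tr X (Nat.le_succ k) ≫ φ' = φ := Abelian.comp_epiDesc _ _ _
      have hkill : HomKilledBy (J ^ (n + 1)) φ' := fun a ha => by
        rw [← cancel_epi (tr X (Nat.le_succ k)), Linear.comp_smul, hφ', comp_zero]
        exact hφ a ha
      have h2 : kernel.ι (tr X (hk.trans (Nat.le_succ k))) ≫ tr X (Nat.le_succ k) =
          kernel.lift (tr X hk) (kernel.ι (tr X (hk.trans (Nat.le_succ k))) ≫ tr X (Nat.le_succ k))
            (by rw [Category.assoc, tr_comp, kernel.condition]) ≫ kernel.ι (tr X hk) :=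
        (kernel.lift_ι _ _ _).symm
      rw [← hφ', ← Category.assoc, h2, Category.assoc, ih φ' hkill, comp_zero]
  show IsQuot (J ^ (n + 1)) (Qmap hnm)
  have hX' := hX (n + r) (m + r) (Nat.add_le_add_right hnm r)
  have := hepi m
  refine ⟨(hq n).1, fun Z φ hφ => ?_⟩
  have h0 := key (m + r) (Nat.add_le_add_right hnm r) (q m ≫ φ) (homKilledBy_comp_left hφ _)
  let φ₁ := Abelian.epiDesc (tr X (Nat.add_le_add_right hnm r)) (q m ≫ φ) h0
  have hφ₁ : tr X (Nat.add_le_add_right hnm r) ≫ φ₁ = q m ≫ φ := Abelian.comp_epiDesc _ _ _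
  have hkill : HomKilledBy (J ^ (n + 1)) φ₁ := fun a ha => by
    rw [← cancel_epi (tr X (Nat.add_le_add_right hnm r)), Linear.comp_smul, hφ₁, comp_zero]
    exact homKilledBy_comp_left hφ (q m) a ha
  refine ⟨quotDesc (hq n) φ₁ hkill, ?_, fun ψ hψ => ?_⟩
  · show Qmap hnm ≫ _ = φ
    rw [← cancel_epi (q m), ← Category.assoc, hQmap hnm, Category.assoc, quotDesc_fac, hφ₁]
  · have := hepi n
    rw [← cancel_epi (q n), quotDesc_fac, ← cancel_epi (tr X (Nat.add_le_add_right hnm r)), hφ₁,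
      ← Category.assoc, ← hQmap hnm, Category.assoc]
    exact congrArg (q m ≫ ·) hψ

end Criterion

end Groth.Agent.Lib.AR
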