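import Groth.Agent.Lib.AR.Sys

/-!
# The uniform Mittag-Leffler condition
-/

universe v u

open CategoryTheory CategoryTheory.Limits Opposite ARSys

namespace Groth.Agent.Lib.AR

variable {C : Type u} [Category.{v} C] [Abelian C] {X Y Z : PS C}

/-- All images of transition maps of length at least `r` coincide. -/
def MLBy (X : PS C) (r : ℕ) : Prop :=
  ∀ n m (h : n ≤ m), n + r ≤ m → ImLE (tr X (Nat.le_add_right n r)) (tr X h)

lemma isMLAR_iff : IsMLAR X ↔ ∃ r, MLBy X r := by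
  refine ⟨fun ⟨r, hr⟩ => ⟨r, fun n m h hm => ?_⟩, fun ⟨r, hr⟩ => ⟨r, fun (s : ℕ) hs n => ?_⟩⟩
  · obtain ⟨s, rfl⟩ := Nat.exists_eq_add_of_le h
    exact ((imageSubobject_eq_iff _ _).1 (hr s (by omega) n)).2
  · show imageSubobject (tr X (Nat.le_add_right n s)) = imageSubobject (tr X (Nat.le_add_right n r))
    exact (imageSubobject_eq_iff _ _).2
      ⟨ImLE.of_eq (tr X (show n + r ≤ n + s by omega)) (tr_comp X _ _).symm,
        hr n (n + s) _ (by omega)⟩

/-- `X` is ML if it is so up to an isomorphism up to translation. -/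
lemma MLBy.of_inv {u : X ⟶ Y} {r a : ℕ} (i : Inv u r) (hY : MLBy Y a) :
    MLBy X (r + a + r) := fun n m h hm => by
  have h1 : tr X (Nat.le_add_right n (r + a + r)) =
      (tr X (show n + r + a ≤ n + (r + a + r) by omega) ≫ u.app (op (n + r + a))) ≫
        tr Y (Nat.le_add_right (n + r) a) ≫ i.v n := by
    rw [Category.assoc, tr_app_assoc, i.uv]
    simp
  rw [h1]
  refine ((((hY (n + r) (m + r) (by omega) (by omega)).comp (i.v n)).comp_left _)).trans ?_
  rw [← i.nat n m h]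
  exact ImLE.self_comp _ _

lemma MLBy.map_inv {u : X ⟶ Y} {r a : ℕ} (i : Inv u r) (hX : MLBy X a) :
    MLBy Y (a + r) := fun n m h hm => by
  have h1 : tr Y (Nat.le_add_right n (a + r)) =
      (tr Y (show n + a + r ≤ n + (a + r) by omega) ≫ i.v (n + a)) ≫
        tr X (Nat.le_add_right n a) ≫ u.app (op n) := by
    rw [← tr_app, Category.assoc, i.vu_assoc]
    simp
  rw [h1]
  refine ((((hX n m h (by omega)).comp (u.app (op n))).comp_left _)).trans ?_
  rw [← tr_app]
  exact ImLE.self_comp _ _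

lemma isMLAR_iff_of_isARIso {u : X ⟶ Y} (hu : IsARIso u) : IsMLAR X ↔ IsMLAR Y := by
  obtain ⟨r, ⟨i⟩⟩ := exists_inv_of_isARIso hu
  simp only [isMLAR_iff]
  exact ⟨fun ⟨a, ha⟩ => ⟨_, ha.map_inv i⟩, fun ⟨a, ha⟩ => ⟨_, ha.of_inv i⟩⟩

lemma MLBy.of_isStrict (hX : IsStrict X) : MLBy X 0 := fun n m h _ => by
  have := hX n m h
  refine ImLE.trans (ImLE.of_eq (g := 𝟙 (X.obj (op n))) _ (Category.comp_id _).symm) ?_
  exact ImLE.of_epi_left (tr X h) ((Category.comp_id (tr X h)).symm ▸ ImLE.refl _)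

lemma MLBy.of_epi {a : ℕ} (hX : MLBy X a) (f : X ⟶ Y) [Epi f] : MLBy Y a := fun n m h hm => by
  have := epi_app f (op (n + a))
  refine ImLE.of_epi_left (f.app (op (n + a))) ?_
  rw [tr_app]
  refine ((hX n m h hm).comp (f.app (op n))).trans ?_
  rw [← tr_app]
  exact ImLE.self_comp _ _

lemma isMLAR_of_epi (f : X ⟶ Y) [Epi f] (hX : IsMLAR X) : IsMLAR Y := by
  obtain ⟨a, ha⟩ := isMLAR_iff.1 hX
  exact isMLAR_iff.2 ⟨a, ha.of_epi f⟩

/-- A system of images of transition maps of length `r`. -/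
noncomputable def uImage (X : PS C) (r : ℕ) : PS C := Abelian.image (trNat X r)

/-- Its inclusion. -/
noncomputable def uImageι (X : PS C) (r : ℕ) : uImage X r ⟶ X := Abelian.image.ι (trNat X r)

/-- The map onto it. -/
noncomputable def uImageπ (X : PS C) (r : ℕ) : (shift C r).obj X ⟶ uImage X r :=
  Abelian.factorThruImage (trNat X r)

instance (X : PS C) (r : ℕ) : Mono (uImageι X r) :=
  inferInstanceAs (Mono (Abelian.image.ι (trNat X r)))

instance (X : PS C) (r : ℕ) : Epi (uImageπ X r) :=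
  inferInstanceAs (Epi (Abelian.factorThruImage (trNat X r)))

/-- The components of `uImageπ`. -/
noncomputable def uImageπn (X : PS C) (r n : ℕ) : X.obj (op (n + r)) ⟶ (uImage X r).obj (op n) :=
  (uImageπ X r).app (op n)

instance (X : PS C) (r n : ℕ) : Epi (uImageπn X r n) := epi_app (uImageπ X r) (op n)

@[reassoc]
lemma uImage_fac (X : PS C) (r n : ℕ) :
    uImageπn X r n ≫ (uImageι X r).app (op n) = tr X (Nat.le_add_right n r) :=
  congrArg (fun t => NatTrans.app t (op n)) (Abelian.image.fac (trNat X r))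

lemma uImageι_imLE (X : PS C) (r n : ℕ) :
    ImLE ((uImageι X r).app (op n)) (tr X (Nat.le_add_right n r)) := by
  rw [← uImage_fac]
  exact ImLE.le_epi_comp _ _

lemma imLE_uImageι (X : PS C) (r n : ℕ) :
    ImLE (tr X (Nat.le_add_right n r)) ((uImageι X r).app (op n)) :=
  ImLE.of_eq _ (uImage_fac X r n).symm

lemma uImage_isARIso (X : PS C) (r : ℕ) : IsARIso (uImageι X r) := by
  refine HasInv.isARIso ⟨r, fun n => ⟨uImageπn X r n, uImage_fac X r n, ?_⟩⟩
  have := mono_app (uImageι X r) (op n)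
  rw [← cancel_mono ((uImageι X r).app (op n)), Category.assoc, uImage_fac, tr_app]

lemma uImage_isStrict {r : ℕ} (h : MLBy X r) : IsStrict (uImage X r) := fun n m hnm => by
  have := mono_app (uImageι X r) (op n)
  refine ImLE.epi_of_le_comp (m := (uImageι X r).app (op n)) ((uImageι_imLE X r n).trans ?_)
  refine (h n (m + r) (by omega) (by omega)).trans (ImLE.of_eq (uImageπn X r m) ?_)
  rw [← tr_app, uImage_fac_assoc]
  simp

/-- A uniformly ML system has a strict subsystem with null quotient. -/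
lemma exists_strict_mono_isARIso (hX : IsMLAR X) :
    ∃ (Y : PS C) (u : Y ⟶ X), Mono u ∧ IsStrict Y ∧ IsARIso u := by
  obtain ⟨r, hr⟩ := isMLAR_iff.1 hX
  exact ⟨uImage X r, uImageι X r, inferInstance, uImage_isStrict hr, uImage_isARIso X r⟩

lemma isMLAR_of_strict_isARIso {u : Y ⟶ X} (hY : IsStrict Y) (hu : IsARIso u) : IsMLAR X :=
  (isMLAR_iff_of_isARIso hu).1 (isMLAR_iff.2 ⟨0, MLBy.of_isStrict hY⟩)

lemma isMLAR_iff_exists_strict :
    IsMLAR X ↔ ∃ (Y : PS C) (u : Y ⟶ X), IsStrict Y ∧ IsARIso u := by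
  refine ⟨fun h => ?_, fun ⟨Y, u, hY, hu⟩ => isMLAR_of_strict_isARIso hY hu⟩
  obtain ⟨Y, u, -, hY, hu⟩ := exists_strict_mono_isARIso h
  exact ⟨Y, u, hY, hu⟩

lemma exists_imageSubobject_eq {u : Y ⟶ X} (hY : IsStrict Y) (hu : IsARIso u) :
    ∃ r : ℕ, ∀ s : ℕ, r ≤ s → ∀ n : ℕ,
      imageSubobject (shiftMap X s n) = imageSubobject (u.app (op n)) := by
  obtain ⟨r, ⟨i⟩⟩ := exists_inv_of_isARIso hu
  refine ⟨r, fun (s : ℕ) hs n => (imageSubobject_eq_iff (tr X (Nat.le_add_right n s)) _).2 ⟨?_, ?_⟩⟩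
  · refine ImLE.of_eq (tr X (show n + r ≤ n + s by omega) ≫ i.v n) ?_
    rw [Category.assoc, i.vu, tr_comp]
  · have := hY n (n + s) (Nat.le_add_right n s)
    refine ImLE.of_epi_left (tr Y (Nat.le_add_right n s)) ?_
    rw [← tr_app]
    exact ImLE.self_comp _ _

lemma MLBy.of_exact {a b : ℕ} {S : ShortComplex (PS C)} (hS : S.Exact) [Epi S.g]
    (h₁ : MLBy S.X₁ a) (h₃ : MLBy S.X₃ b) : MLBy S.X₂ (a + b) := fun n m h hm => by
  -- an element at level `n + (a + b)`, pushed to level `n + a`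
  have := epi_app S.g (op m)
  have hb := h₃ (n + a) m (by omega) (by omega)
  let y := tr S.X₂ (show n + a + b ≤ n + (a + b) by omega)
  have h1 : ImLE ((y ≫ tr S.X₂ (Nat.le_add_right (n + a) b)) ≫ S.g.app (op (n + a)))
      (tr S.X₂ (show n + a ≤ m by omega) ≫ S.g.app (op (n + a))) := by
    rw [Category.assoc, ← tr_app, ← Category.assoc]
    refine ((hb.comp_left _)).trans ?_
    rw [← tr_app]
    exact ImLE.of_epi_left (S.g.app (op m)) (ImLE.refl _)
  obtain ⟨T, π, hπ, z, hz⟩ := h1.exists_refinement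
  have e : (π ≫ y ≫ tr S.X₂ (Nat.le_add_right (n + a) b) -
      z ≫ tr S.X₂ (show n + a ≤ m by omega)) ≫ S.g.app (op (n + a)) = 0 := by
    simp only [Preadditive.sub_comp, Category.assoc]
    exact sub_eq_zero.2 (by simpa only [Category.assoc] using hz)
  obtain ⟨T', π', hπ', w, hw⟩ := (exact_app hS (op (n + a))).exact_up_to_refinements _ e
  refine ImLE.of_epi_left (π' ≫ π) ?_
  have e2 : (π' ≫ π) ≫ tr S.X₂ (Nat.le_add_right n (a + b)) =
      w ≫ tr S.X₁ (Nat.le_add_right n a) ≫ S.f.app (op n) + (π' ≫ z) ≫ tr S.X₂ h := by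
    have := congrArg (· ≫ tr S.X₂ (Nat.le_add_right n a)) hw
    simp only [Category.assoc, Preadditive.comp_sub, Preadditive.sub_comp, tr_app, tr_comp, y] at this ⊢
    rw [← this]
    abel
  rw [e2]
  refine ImLE.add (ImLE.trans (((h₁ n m h (by omega)).comp (S.f.app (op n))).comp_left w) ?_)
    (ImLE.self_comp _ _)
  rw [← tr_app]
  exact ImLE.self_comp _ _

lemma isMLAR_of_shortExact {S : ShortComplex (PS C)} (hS : S.ShortExact) (h₁ : IsMLAR S.X₁)
    (h₃ : IsMLAR S.X₃) : IsMLAR S.X₂ := by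
  have := hS.epi_g
  obtain ⟨a, ha⟩ := isMLAR_iff.1 h₁
  obtain ⟨b, hb⟩ := isMLAR_iff.1 h₃
  exact isMLAR_iff.2 ⟨a + b, MLBy.of_exact hS.exact ha hb⟩

lemma isMLAR_iff_universalImages (X : PS C) :
    IsMLAR X ↔ (IsML X ∧ ∃ (X' : PS C) (ι : X' ⟶ X), Mono ι ∧
      (∀ n : ℕ, ∃ r₀ : ℕ, ∀ r : ℕ, r₀ ≤ r →
        imageSubobject (ι.app (op n)) = imageSubobject (shiftMap X r n)) ∧
      IsARNull (cokernel ι)) := by
  constructor
  · intro h
    obtain ⟨Y, u, hmono, hY, hu⟩ := exists_strict_mono_isARIso h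
    obtain ⟨r₀, hr₀⟩ := exists_imageSubobject_eq hY hu
    obtain ⟨r, hr⟩ := h
    exact ⟨fun n => ⟨r, fun s hs => hr s hs n⟩, Y, u, hmono,
      fun n => ⟨r₀, fun s hs => (hr₀ s hs n).symm⟩, hu.2⟩
  · rintro ⟨-, X', ι, hι, him, hnull⟩
    refine isMLAR_of_strict_isARIso (u := ι) (fun n m hnm => ?_) ⟨isARNull_iff.2 ⟨0, ?_⟩, hnull⟩
    · obtain ⟨a, ha⟩ := him n
      obtain ⟨b, hb⟩ := him m
      have := mono_app ι (op n)
      refine ImLE.epi_of_le_comp (m := ι.app (op n)) ?_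
      rw [← tr_app]
      have h1 : ImLE (ι.app (op n)) (tr X (Nat.le_add_right n (m + (a + b) - n))) :=
        ((imageSubobject_eq_iff _ _).1 (ha (m + (a + b) - n) (by omega))).1
      have h2 : ImLE (tr X (Nat.le_add_right m (a + b)) ≫ tr X hnm) (ι.app (op m) ≫ tr X hnm) :=
        (((imageSubobject_eq_iff _ _).1 (hb (a + b) (by omega))).2).comp (tr X hnm)
      refine (h1.trans ?_).trans h2
      refine ImLE.of_eq (tr X (show m + (a + b) ≤ n + (m + (a + b) - n) by omega)) ?_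
      simp
    · intro n m _ _
      have := mono_app (kernel.ι ι) (op n)
      have : (kernel.ι ι) = 0 := kernel.ι_of_mono ι
      rw [← cancel_mono ((kernel.ι ι).app (op n)), zero_comp, this]
      simp

end Groth.Agent.Lib.AR
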