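import Groth.Agent.Lib.AR.Quot
import Groth.Agent.Lib.AR.ML

/-!
# Adic systems in short exact sequences
-/

universe w v u

open CategoryTheory CategoryTheory.Limits Opposite ARSys

namespace Groth.Agent.Lib.AR

/-- Descending along the second map of an exact sequence of diagrams, degreewise. -/
lemma exists_desc_app {C : Type u} [Category.{v} C] [Abelian C] {K : Type*} [Category K]
    {S : ShortComplex (K ⥤ C)} (h : S.Exact) [Epi S.g] (j : K) {P : C} (φ : S.X₂.obj j ⟶ P)
    (h0 : S.f.app j ≫ φ = 0) : ∃ ψ : S.X₃.obj j ⟶ P, S.g.app j ≫ ψ = φ := by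
  have := epi_app S.g j
  exact ⟨(exact_app h j).desc φ h0, (exact_app h j).g_desc φ h0⟩

attribute [local instance] Abelian.hasFiniteBiproducts

variable {C : Type u} [Category.{v} C] [Abelian C] {A : Type w} [CommRing A] [Linear A C]
  {J : Ideal A}

section ShortExact

variable {S : ShortComplex (PS C)}

lemma isAdic_X₃ (hS : S.ShortExact) (h₁ : IsStrict S.X₁) (h₂ : IsAdic J S.X₂) : IsAdic J S.X₃ := by
  have := hS.epi_g
  refine ⟨termKilled_of_epi h₂.1 S.g, fun n m h => ?_⟩
  have hg := fun k => epi_app S.g (op k)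
  have := isQuot_epi (h₂.2 n m h)
  have : Epi (tr S.X₃ h) := isStrict_of_epi S.g hg (isStrict_of_isAdic h₂) n m h
  refine isQuot_of ?_ fun Y φ hφ => ?_
  · exact killedBy_of_epi (S.g.app (op n)) (h₂.1 n)
  · let ψ := quotDesc (h₂.2 n m h) (S.g.app (op m) ≫ φ) (homKilledBy_comp_left hφ _)
    have hψ : tr S.X₂ h ≫ ψ = S.g.app (op m) ≫ φ := quotDesc_fac _ _ _
    have := h₁ n m h
    have hfψ : S.f.app (op n) ≫ ψ = 0 := by
      rw [← cancel_epi (tr S.X₁ h), ← tr_app_assoc, hψ, ← Category.assoc, ← NatTrans.comp_app,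
        S.zero, zero_app, zero_comp, comp_zero]
    obtain ⟨χ, hχ⟩ := exists_desc_app hS.exact (op n) ψ hfψ
    have hφ' : φ = tr S.X₃ h ≫ χ := by
      have := hg m
      rw [← cancel_epi (S.g.app (op m)), ← hψ, tr_app_assoc, hχ]
    rw [hφ', ← Category.assoc, kernel.condition, zero_comp]

lemma isStrict_X₁ (hS : S.ShortExact) (k₂ : TermKilled J S.X₂) (h₂ : IsStrict S.X₂)
    (h₃ : IsAdic J S.X₃) : IsStrict S.X₁ := fun n m h => by
  have := hS.epi_g
  have := hS.mono_f
  have := mono_app S.f (op n)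
  have hg := fun k => epi_app S.g (op k)
  refine ImLE.epi_of_le_comp (m := S.f.app (op n)) ?_
  rw [← tr_app]
  set c := cokernel.π (S.f.app (op m) ≫ tr S.X₂ h)
  have h0 : S.f.app (op m) ≫ tr S.X₂ h ≫ c = 0 := by
    rw [← Category.assoc]; exact cokernel.condition _
  obtain ⟨ψ, hψ⟩ := exists_desc_app hS.exact (op m) (tr S.X₂ h ≫ c) h0
  have hψk : HomKilledBy (J ^ (n + 1)) ψ := fun a ha => by
    have := hg m
    rw [← cancel_epi (S.g.app (op m)), Linear.comp_smul, hψ, comp_zero]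
    exact homKilledBy_comp_right (killedBy_hom_to (k₂ n) _) c a ha
  let χ := quotDesc (h₃.2 n m h) ψ hψk
  have hc : c = S.g.app (op n) ≫ χ := by
    have := h₂ n m h
    rw [← cancel_epi (tr S.X₂ h), ← hψ, ← tr_app_assoc, quotDesc_fac]
  show S.f.app (op n) ≫ c = 0
  rw [hc, ← Category.assoc, ← NatTrans.comp_app, S.zero, zero_app, zero_comp]

lemma isAdic_X₂ (hS : S.ShortExact) (k₂ : TermKilled J S.X₂) (h₁ : IsAdic J S.X₁)
    (h₃ : IsAdic J S.X₃) : IsAdic J S.X₂ := by
  have := hS.epi_g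
  have := hS.mono_f
  refine ⟨k₂, fun n m h => ?_⟩
  have hg := fun k => epi_app S.g (op k)
  have hf := fun k => mono_app S.f (op k)
  have hstrict : Epi (tr S.X₂ h) := by
    refine Preadditive.epi_of_cancel_zero _ fun {P} φ hφ => ?_
    have := isQuot_epi (h₁.2 n m h)
    have h0 : S.f.app (op n) ≫ φ = 0 := by
      rw [← cancel_epi (tr S.X₁ h), ← tr_app_assoc, hφ, comp_zero, comp_zero]
    obtain ⟨d, hd⟩ := exists_desc_app hS.exact (op n) φ h0
    have := isQuot_epi (h₃.2 n m h)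
    have := hg m
    rw [← hd]
    suffices d = 0 by rw [this, comp_zero]
    rw [← cancel_epi (tr S.X₃ h), ← cancel_epi (S.g.app (op m)), tr_app_assoc, hd, hφ]
    simp
  refine isQuot_of (k₂ n) fun Y φ hφ => ?_
  let α := quotDesc (h₁.2 n m h) (S.f.app (op m) ≫ φ) (homKilledBy_comp_left hφ _)
  -- restrict the target to what is killed
  let i : S.X₁.obj (op n) ⟶ Y ⊞ S.X₂.obj (op n) := biprod.lift α (-S.f.app (op n))
  let q := cokernel.π i
  let θ : S.X₂.obj (op m) ⟶ cokernel i :=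
    φ ≫ biprod.inl ≫ q - tr S.X₂ h ≫ biprod.inr ≫ q
  have hθf : S.f.app (op m) ≫ θ = 0 := by
    have e : S.f.app (op m) ≫ θ =
        tr S.X₁ h ≫ (α ≫ biprod.inl - S.f.app (op n) ≫ biprod.inr) ≫ q := by
      simp only [θ, Preadditive.comp_sub, Preadditive.sub_comp, Category.assoc]
      rw [tr_app_assoc, ← Category.assoc (S.f.app _) φ, ← quotDesc_fac (h₁.2 n m h)
        (S.f.app (op m) ≫ φ) (homKilledBy_comp_left hφ _), Category.assoc]
    have e' : (α ≫ biprod.inl - S.f.app (op n) ≫ biprod.inr : _ ⟶ Y ⊞ S.X₂.obj (op n)) = i := by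
      apply biprod.hom_ext <;> simp [i]
    rw [e, e', cokernel.condition, comp_zero]
  have hθ : HomKilledBy (J ^ (n + 1)) θ := fun a ha => by
    simp only [θ, smul_sub, ← Linear.smul_comp, hφ a ha,
      killedBy_smul_eq_zero (k₂ n) ha, zero_comp, sub_zero]
  obtain ⟨ψ, hψ⟩ := exists_desc_app hS.exact (op m) θ hθf
  have hψk : HomKilledBy (J ^ (n + 1)) ψ := fun a ha => by
    have := hg m
    rw [← cancel_epi (S.g.app (op m)), Linear.comp_smul, hψ, comp_zero]
    exact hθ a ha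
  let χ := quotDesc (h₃.2 n m h) ψ hψk
  have hk : kernel.ι (tr S.X₂ h) ≫ φ ≫ biprod.inl ≫ q = 0 := by
    have e : θ = tr S.X₂ h ≫ S.g.app (op n) ≫ χ := by
      rw [← hψ, ← tr_app_assoc, quotDesc_fac]
    have e2 : φ ≫ biprod.inl ≫ q = θ + tr S.X₂ h ≫ biprod.inr ≫ q := by simp [θ]
    rw [e2, e, ← Preadditive.comp_add, kernel.condition_assoc, zero_comp]
  -- the left inclusion stays injective
  have hinl : ImLE (kernel.ι (tr S.X₂ h) ≫ φ ≫ (biprod.inl : Y ⟶ Y ⊞ S.X₂.obj (op n))) i := by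
    show (_ ≫ φ ≫ _) ≫ cokernel.π i = 0
    simpa only [Category.assoc] using hk
  obtain ⟨T, π, hπ, z, hz⟩ := hinl.exists_refinement
  have hz' : z = 0 := by
    have := hf n
    have h2 := hz =≫ biprod.snd
    simp only [i, Category.assoc, biprod.inl_snd, comp_zero, biprod.lift_snd,
      Preadditive.comp_neg] at h2
    rw [← cancel_mono (S.f.app (op n)), zero_comp]
    exact neg_eq_zero.1 h2.symm
  rw [hz', zero_comp] at hz
  have h3 := hz =≫ biprod.fst
  simp only [Category.assoc, biprod.inl_fst, Category.comp_id, zero_comp] at h3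
  rwa [← cancel_epi π, comp_zero]

end ShortExact

section Translate

variable {X Y : PS C}

/-- A map out of a translate of an adic system into a killed system descends. -/
lemma existsUnique_shift_desc (hX : IsAdic J X) (hY : TermKilled J Y) (r : ℕ)
    (f : (shift C r).obj X ⟶ Y) :
    ∃! g : X ⟶ Y, ∀ n : ℕ, f.app (op n) = shiftMap X r n ≫ g.app (op n) := by
  let fn : ∀ n, X.obj (op (n + r)) ⟶ Y.obj (op n) := fun n => f.app (op n)
  let g : ∀ n, X.obj (op n) ⟶ Y.obj (op n) := fun n =>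
    quotDesc (hX.2 n (n + r) (Nat.le_add_right n r)) (fn n) (killedBy_hom_to (hY n) _)
  have hg : ∀ n, tr X (Nat.le_add_right n r) ≫ g n = fn n := fun n => quotDesc_fac _ _ _
  refine ⟨natMk g fun n m h => ?_, fun n => (hg n).symm, fun g' hg' => ?_⟩
  · have := isQuot_epi (hX.2 m (m + r) (Nat.le_add_right m r))
    have e : fn m ≫ tr Y h = tr X (Nat.add_le_add_right h r) ≫ fn n := tr_app f h
    rw [← cancel_epi (tr X (Nat.le_add_right m r)), ← Category.assoc, hg, e, ← hg n,
      tr_comp_assoc, tr_comp_assoc]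
  · ext ⟨n⟩
    have := isQuot_epi (hX.2 n (n + r) (Nat.le_add_right n r))
    show g'.app (op n) = g n
    rw [← cancel_epi (tr X (Nat.le_add_right n r)), hg]
    exact (hg' n).symm

/-- An isomorphism up to translation from a translate descends to the system. -/
lemma exists_isARIso_of_shift (hX : TermKilled J X) (hY : IsAdic J Y) (r : ℕ)
    (v : (shift C r).obj Y ⟶ X) (hv : IsARIso v) : ∃ u : Y ⟶ X, IsARIso u := by
  obtain ⟨u, hu, -⟩ := existsUnique_shift_desc hY hX r v
  obtain ⟨a, ⟨i⟩⟩ := exists_inv_of_isARIso hv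
  let w : ∀ n, X.obj (op (n + a)) ⟶ Y.obj (op (n + r)) := i.v
  let vn : ∀ n, Y.obj (op (n + r)) ⟶ X.obj (op n) := fun n => v.app (op n)
  have hvu : ∀ n, w n ≫ vn n = tr X (Nat.le_add_right n a) := i.vu
  have huv : ∀ n, vn (n + a) ≫ w n = tr Y (Nat.add_le_add_right (Nat.le_add_right n a) r) := i.uv
  have hu' : ∀ n, vn n = tr Y (Nat.le_add_right n r) ≫ u.app (op n) := hu
  refine ⟨u, HasInv.isARIso ⟨a, fun n => ⟨w n ≫ tr Y (Nat.le_add_right n r), ?_, ?_⟩⟩⟩
  · rw [Category.assoc, ← hu', hvu]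
  · have := isQuot_epi (hY.2 (n + a) (n + a + r) (Nat.le_add_right _ r))
    rw [← cancel_epi (tr Y (Nat.le_add_right (n + a) r)), ← Category.assoc, ← hu', ← Category.assoc,
      huv, tr_comp, tr_comp]

end Translate

end Groth.Agent.Lib.AR
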