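import Groth.Agent.Lib.AR.ShortExact
import Mathlib.CategoryTheory.Preadditive.Biproducts
import Mathlib.CategoryTheory.Abelian.Basic

/-!
# The abelian category of adic systems with Noetherian components
-/

universe w v u

open CategoryTheory CategoryTheory.Limits Opposite ARSys

namespace Groth.Agent.Lib.AR

attribute [local instance] Abelian.hasFiniteBiproducts

variable {C : Type u} [Category.{v} C] [Abelian C]

lemma isARNull_cokernel_of_epi {X Y : PS C} (f : X ⟶ Y) [Epi f] : IsARNull (cokernel f) := by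
  refine isARNull_iff.2 ⟨0, fun n m h _ => ?_⟩
  have hz : cokernel.π f = 0 := by rw [← cancel_epi f, cokernel.condition, comp_zero]
  have := epi_app (cokernel.π f) (op m)
  rw [← cancel_epi ((cokernel.π f).app (op m)), hz]
  simp

variable {A : Type w} [CommRing A] [Linear A C] {J : Ideal A}

/-- Morphisms out of an adic system lift uniquely along isomorphisms up to translation. -/
lemma existsUnique_lift_of_isARIso {W Y K : PS C} (hW : IsAdic J W) (kY : TermKilled J Y)
    (kK : TermKilled J K) {u : Y ⟶ K} (hu : IsARIso u) (φ : W ⟶ K) :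
    ∃! ψ : W ⟶ Y, ψ ≫ u = φ := by
  obtain ⟨r, ⟨i⟩⟩ := exists_inv_of_isARIso hu
  let g : (shift C r).obj W ⟶ Y := natMk (fun n => φ.app (op (n + r)) ≫ i.v n) fun n m h => by
    have e : (φ.app (op (m + r)) ≫ i.v m) ≫ tr Y h =
        tr W (Nat.add_le_add_right h r) ≫ φ.app (op (n + r)) ≫ i.v n := by
      rw [Category.assoc, i.nat, tr_app_assoc]
    exact e
  obtain ⟨ψ, hψ, -⟩ := existsUnique_shift_desc hW kY r g
  have hψ' : ∀ n, tr W (Nat.le_add_right n r) ≫ ψ.app (op n) = φ.app (op (n + r)) ≫ i.v n :=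
    fun n => (hψ n).symm
  have huniq : ∀ δ : W ⟶ Y, δ ≫ u = 0 → δ = 0 := fun δ hδ => by
    ext ⟨n⟩
    show δ.app (op n) = 0
    have := isQuot_epi (hW.2 n (n + r) (Nat.le_add_right n r))
    rw [← cancel_epi (tr W (Nat.le_add_right n r)), ← tr_app, ← i.uv, ← Category.assoc,
      ← NatTrans.comp_app, hδ]
    simp
  refine ⟨ψ, ?_, fun ψ' hψ'' => sub_eq_zero.1 (huniq _ ?_)⟩
  · ext ⟨n⟩
    show ψ.app (op n) ≫ u.app (op n) = φ.app (op n)
    have := isQuot_epi (hW.2 n (n + r) (Nat.le_add_right n r))
    rw [← cancel_epi (tr W (Nat.le_add_right n r)), ← Category.assoc, hψ', Category.assoc, i.vu,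
      tr_app]
  · rw [Preadditive.sub_comp, hψ'', sub_eq_zero]
    ext ⟨n⟩
    show φ.app (op n) = ψ.app (op n) ≫ u.app (op n)
    have := isQuot_epi (hW.2 n (n + r) (Nat.le_add_right n r))
    rw [← cancel_epi (tr W (Nat.le_add_right n r)), ← Category.assoc, hψ', Category.assoc, i.vu,
      tr_app]

variable (C) in
/-- Adic systems with Noetherian components. -/
abbrev adicNoethProp (J : Ideal A) : ObjectProperty (PS C) :=
  fun X : PS C => IsAdicNoeth J X

lemma isAdicNoeth_biprod {X Y : PS C} (hX : IsAdicNoeth J X) (hY : IsAdicNoeth J Y) :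
    IsAdicNoeth J (X ⊞ Y) := by
  have hS := (ShortComplex.Splitting.ofHasBinaryBiproduct X Y).shortExact
  exact ⟨isAdic_X₂ hS (fun n => killedBy_biprod_app (hX.1.1 n) (hY.1.1 n)) hX.1 hY.1,
    fun n => isNoetherianObject_X₂ (exact_app hS.exact (op n)) (hX.2 n) (hY.2 n)⟩

lemma isAdicNoeth_cokernel {X Y : PS C} (f : X ⟶ Y) (hX : IsAdicNoeth J X)
    (hY : IsAdicNoeth J Y) : IsAdicNoeth J (cokernel f) := by
  have hse : (ShortComplex.mk (Abelian.image.ι f) (cokernel.π f) (kernel.condition _)).ShortExact :=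
    { exact := ShortComplex.exact_of_f_is_kernel _ (kernelIsKernel (cokernel.π f)) }
  refine ⟨isAdic_X₃ hse ?_ hY.1, fun n => ?_⟩
  · exact isStrict_of_epi (Abelian.factorThruImage f)
      (fun n => epi_app (Abelian.factorThruImage f) (op n)) (isStrict_of_isAdic hX.1)
  · have := epi_app (cokernel.π f) (op n)
    exact isNoetherianObject_of_epi ((cokernel.π f).app (op n)) (hY.2 n)

section Category

variable (C) in
/-- The category of adic systems with Noetherian components. -/
abbrev AdicCat (J : Ideal A) : Type max u v := (adicNoethProp C J).FullSubcategory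

variable {X Y : AdicCat C J} (f : X ⟶ Y)


lemma hom_ext' {W : (AdicCat C J)} {a b : W ⟶ X} (h : a.hom = b.hom) : a = b :=
  ObjectProperty.hom_ext _ h

instance hasZeroObject : HasZeroObject (AdicCat C J) := by
  obtain ⟨W, hW⟩ : ∃ W : PS C, IsZero W := HasZeroObject.zero
  have hWn : ∀ n, IsZero (W.obj (op n)) := fun n => by
    rw [IsZero.iff_id_eq_zero, ← NatTrans.id_app, (IsZero.iff_id_eq_zero W).1 hW]
    rfl
  have hA : IsAdicNoeth J W :=
    ⟨⟨fun n a _ => (hWn n).eq_of_tgt _ _, fun n m h =>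
      ⟨fun a _ => (hWn n).eq_of_tgt _ _, fun Y φ _ =>
        ⟨0, (hWn m).eq_of_src _ _, fun ψ _ => (hWn n).eq_of_src _ _⟩⟩⟩,
    fun n => isNoetherianObject_of_isZero (hWn n)⟩
  refine ⟨⟨⟨W, hA⟩, ?_⟩⟩
  exact (IsZero.iff_id_eq_zero _).2 (ObjectProperty.hom_ext _ (hW.eq_of_src _ _))

instance hasBinaryBiproducts : HasBinaryBiproducts (AdicCat C J) where
  has_binary_biproduct P Q := by
    let B : (AdicCat C J) := ⟨P.obj ⊞ Q.obj, isAdicNoeth_biprod P.property Q.property⟩
    refine hasBinaryBiproduct_of_total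
      { pt := B
        fst := ObjectProperty.homMk biprod.fst
        snd := ObjectProperty.homMk biprod.snd
        inl := ObjectProperty.homMk biprod.inl
        inr := ObjectProperty.homMk biprod.inr
        inl_fst := ObjectProperty.hom_ext _ biprod.inl_fst
        inl_snd := ObjectProperty.hom_ext _ biprod.inl_snd
        inr_fst := ObjectProperty.hom_ext _ biprod.inr_fst
        inr_snd := ObjectProperty.hom_ext _ biprod.inr_snd } ?_
    exact ObjectProperty.hom_ext _ biprod.total

instance hasFiniteProducts : HasFiniteProducts (AdicCat C J) :=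
  have : HasTerminal (AdicCat C J) := HasZeroObject.hasTerminal
  hasFiniteProducts_of_has_binary_and_terminal

lemma exists_isColimit_cokernelCofork :
    ∃ (Q : (AdicCat C J)) (c : Y ⟶ Q) (w : f ≫ c = 0), c.hom ≍ cokernel.π f.hom ∧
      Nonempty (IsColimit (CokernelCofork.ofπ c w)) := by
  refine ⟨⟨_, isAdicNoeth_cokernel f.hom X.property Y.property⟩,
    ObjectProperty.homMk (cokernel.π f.hom), ObjectProperty.hom_ext _ (cokernel.condition _),
    HEq.rfl, ⟨?_⟩⟩
  refine CokernelCofork.IsColimit.ofπ _ _ (fun g hg => ObjectProperty.homMk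
    (cokernel.desc f.hom g.hom (congrArg InducedCategory.Hom.hom hg))) (fun g hg => ?_)
    (fun g hg b hb => ?_)
  · exact ObjectProperty.hom_ext _ (cokernel.π_desc _ _ _)
  · refine ObjectProperty.hom_ext _ ?_
    apply coequalizer.hom_ext
    exact (congrArg InducedCategory.Hom.hom hb).trans (cokernel.π_desc _ _ _).symm

instance hasCokernels : HasCokernels (AdicCat C J) where
  has_colimit {X Y} f := by
    obtain ⟨Q, c, w, -, ⟨h⟩⟩ := exists_isColimit_cokernelCofork f
    exact HasColimit.mk ⟨_, h⟩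

lemma epi_hom [Epi f] : Epi f.hom := by
  let c : Y ⟶ ⟨_, isAdicNoeth_cokernel f.hom X.property Y.property⟩ :=
    ObjectProperty.homMk (cokernel.π f.hom)
  have hc : c = 0 := by
    rw [← cancel_epi f, comp_zero]
    exact ObjectProperty.hom_ext _ (cokernel.condition _)
  exact Abelian.epi_of_cokernel_π_eq_zero _ (congrArg InducedCategory.Hom.hom hc)

variable [IsNoetherianRing A]

lemma isARAdicNoeth_of_isAdicNoeth {Z : PS C} (h : IsAdicNoeth J Z) : IsARAdicNoeth J Z :=
  ⟨⟨h.1.1, Z, 𝟙 Z, h.1, isARIso_of_isIso _⟩, h.2⟩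

/-- The adic system attached to the kernel. -/
lemma exists_kernel_cover :
    ∃ (K : (AdicCat C J)) (u : K.obj ⟶ kernel f.hom), IsARIso u := by
  obtain ⟨K, u, hK, hu⟩ := exists_isAdicNoeth_isARIso
    (isARAdicNoeth_kernel_cokernel f.hom (isARAdicNoeth_of_isAdicNoeth X.property)
      (isARAdicNoeth_of_isAdicNoeth Y.property)).1
  exact ⟨⟨K, hK⟩, u, hu⟩

lemma termKilled_kernel : TermKilled J (kernel f.hom) :=
  termKilled_of_mono X.property.1.1 (kernel.ι f.hom)

instance hasKernels : HasKernels (AdicCat C J) where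
  has_limit {X Y} f := by
    obtain ⟨K, u, hu⟩ := exists_kernel_cover f
    let ι : K ⟶ X := ObjectProperty.homMk (u ≫ kernel.ι f.hom)
    have w : ι ≫ f = 0 := ObjectProperty.hom_ext _ (by
      show (u ≫ kernel.ι f.hom) ≫ f.hom = 0
      rw [Category.assoc, kernel.condition, comp_zero])
    have : Mono ι := ⟨fun {W} a b hab => by
      refine ObjectProperty.hom_ext _ ?_
      have h := congrArg InducedCategory.Hom.hom hab
      have h' : a.hom ≫ u = b.hom ≫ u := by
        rw [← cancel_mono (kernel.ι f.hom), Category.assoc, Category.assoc]; exact h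
      exact (existsUnique_lift_of_isARIso W.property.1 K.property.1.1 (termKilled_kernel f) hu
        (a.hom ≫ u)).unique rfl h'.symm⟩
    have hl : ∀ {W : (AdicCat C J)} (g : W ⟶ X), g ≫ f = 0 → ∃ l : W ⟶ K, l ≫ ι = g := by
      intro W g hg
      obtain ⟨ψ, hψ, -⟩ := existsUnique_lift_of_isARIso W.property.1 K.property.1.1
        (termKilled_kernel f) hu
        (kernel.lift f.hom g.hom (congrArg InducedCategory.Hom.hom hg))
      refine ⟨ObjectProperty.homMk ψ, ObjectProperty.hom_ext _ ?_⟩
      show ψ ≫ u ≫ kernel.ι f.hom = g.hom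
      rw [← Category.assoc, hψ, kernel.lift_ι]
    exact HasLimit.mk ⟨KernelFork.ofι ι w, KernelFork.IsLimit.ofι' ι w fun {W} g hg =>
      ⟨(hl g hg).choose, (hl g hg).choose_spec⟩⟩

lemma isARNull_kernel_of_mono [Mono f] : IsARNull (kernel f.hom) := by
  obtain ⟨K, u, hu⟩ := exists_kernel_cover f
  let ι : K ⟶ X := ObjectProperty.homMk (u ≫ kernel.ι f.hom)
  have hι : ι = 0 := by
    rw [← cancel_mono f, zero_comp]
    refine ObjectProperty.hom_ext _ ?_
    show (u ≫ kernel.ι f.hom) ≫ f.hom = 0
    rw [Category.assoc, kernel.condition, comp_zero]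
  have hu0 : u = 0 := by
    rw [← cancel_mono (kernel.ι f.hom), zero_comp]
    exact congrArg InducedCategory.Hom.hom hι
  obtain ⟨r, ⟨i⟩⟩ := exists_inv_of_isARIso hu
  refine ⟨r, fun n => ?_⟩
  show tr (kernel f.hom) (Nat.le_add_right n r) = 0
  rw [← i.vu, show u.app (op n) = 0 from congrArg (fun t => NatTrans.app t (op n)) hu0,
    comp_zero]

lemma exists_lift_of_mono [Mono f] {W : (AdicCat C J)} (g : W ⟶ Y) (h : ImLE g.hom f.hom) :
    ∃ l : W ⟶ X, l ≫ f = g := by
  let e := Abelian.factorThruImage f.hom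
  have he : IsARIso e := by
    refine ⟨?_, isARNull_cokernel_of_epi e⟩
    let l : kernel e ⟶ kernel f.hom := kernel.lift f.hom (kernel.ι e) (by
      have h1 : (e ≫ Abelian.image.ι f.hom) = f.hom := Abelian.image.fac f.hom
      refine (congrArg (kernel.ι e ≫ ·) h1).symm.trans ?_
      show kernel.ι e ≫ e ≫ Abelian.image.ι f.hom = 0
      rw [kernel.condition_assoc, zero_comp])
    have : Mono l := mono_of_mono_fac (kernel.lift_ι f.hom (kernel.ι e) _)
    obtain ⟨r, hr⟩ := isARNull_iff.1 (isARNull_kernel_of_mono f)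
    exact isARNull_iff.2 ⟨r, hr.of_mono l⟩
  let g' : W.obj ⟶ Abelian.image f.hom := kernel.lift (cokernel.π f.hom) g.hom h
  obtain ⟨ψ, hψ, -⟩ := existsUnique_lift_of_isARIso W.property.1 X.property.1.1
    (termKilled_of_mono Y.property.1.1 (Abelian.image.ι f.hom)) he g'
  refine ⟨ObjectProperty.homMk ψ, ObjectProperty.hom_ext _ ?_⟩
  show ψ ≫ f.hom = g.hom
  rw [← Abelian.image.fac f.hom, ← Category.assoc, hψ]
  exact kernel.lift_ι _ _ _

instance isNormalMonoCategory : IsNormalMonoCategory (AdicCat C J) where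
  normalMonoOfMono {X Y} f _ := by
    obtain ⟨Q, c, w, hc, -⟩ := exists_isColimit_cokernelCofork f
    let c' : Y ⟶ ⟨_, isAdicNoeth_cokernel f.hom X.property Y.property⟩ :=
      ObjectProperty.homMk (cokernel.π f.hom)
    have w' : f ≫ c' = 0 := ObjectProperty.hom_ext _ (cokernel.condition _)
    have hl : ∀ {W : (AdicCat C J)} (g : W ⟶ Y), g ≫ c' = 0 → ∃ l : W ⟶ X, l ≫ f = g := fun g hg =>
      exists_lift_of_mono f g (congrArg InducedCategory.Hom.hom hg)
    exact ⟨{
      Z := _
      g := c'
      w := w'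
      isLimit := KernelFork.IsLimit.ofι' f w' fun g hg => ⟨(hl g hg).choose, (hl g hg).choose_spec⟩ }⟩

instance isNormalEpiCategory : IsNormalEpiCategory (AdicCat C J) where
  normalEpiOfEpi {X Y} f _ := by
    have := epi_hom f
    obtain ⟨K, u, hu⟩ := exists_kernel_cover f
    let ι : K ⟶ X := ObjectProperty.homMk (u ≫ kernel.ι f.hom)
    have w : ι ≫ f = 0 := ObjectProperty.hom_ext _ (by
      show (u ≫ kernel.ι f.hom) ≫ f.hom = 0
      rw [Category.assoc, kernel.condition, comp_zero])
    have hl : ∀ {W : (AdicCat C J)} (g : X ⟶ W), ι ≫ g = 0 → ∃ d : Y ⟶ W, f ≫ d = g := by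
      intro W g hg
      have hg' : u ≫ kernel.ι f.hom ≫ g.hom = 0 :=
        (Category.assoc _ _ _).symm.trans (congrArg InducedCategory.Hom.hom hg)
      obtain ⟨r, ⟨i⟩⟩ := exists_inv_of_isARIso hu
      have h0 : ∀ n, (kernel.ι f.hom).app (op (n + r)) ≫ tr X.obj (Nat.le_add_right n r) ≫
          g.hom.app (op n) = 0 := fun n => by
        rw [tr_app_assoc, ← i.vu, Category.assoc]
        have := congrArg (fun t => NatTrans.app t (op n)) hg'
        simp only [NatTrans.comp_app, zero_app] at this
        rw [this, comp_zero]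
      have hd : ∀ n, ∃ d : Y.obj.obj (op (n + r)) ⟶ W.obj.obj (op n),
          f.hom.app (op (n + r)) ≫ d = tr X.obj (Nat.le_add_right n r) ≫ g.hom.app (op n) := fun n =>
        exists_desc_app (S := ShortComplex.mk (kernel.ι f.hom) f.hom (kernel.condition _))
          (ShortComplex.exact_of_f_is_kernel _ (kernelIsKernel f.hom)) (op (n + r)) _ (h0 n)
      choose d hd using hd
      let δ : (shift C r).obj Y.obj ⟶ W.obj := natMk d fun n m h => by
        have := epi_app f.hom (op (m + r))
        have e : d m ≫ tr W.obj h = tr Y.obj (Nat.add_le_add_right h r) ≫ d n := by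
          rw [← cancel_epi (f.hom.app (op (m + r))), ← Category.assoc, hd, Category.assoc, tr_app,
            tr_comp_assoc, tr_app_assoc, hd, tr_comp_assoc]
        exact e
      obtain ⟨d', hd', -⟩ := existsUnique_shift_desc Y.property.1 W.property.1.1 r δ
      refine ⟨ObjectProperty.homMk d', ObjectProperty.hom_ext _ ?_⟩
      ext ⟨n⟩
      show f.hom.app (op n) ≫ d'.app (op n) = g.hom.app (op n)
      have := isQuot_epi (X.property.1.2 n (n + r) (Nat.le_add_right n r))
      rw [← cancel_epi (tr X.obj (Nat.le_add_right n r)), ← tr_app_assoc, ← hd]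
      exact congrArg (f.hom.app (op (n + r)) ≫ ·) (hd' n).symm
    exact ⟨{
      W := _
      g := ι
      w := w
      isColimit := CokernelCofork.IsColimit.ofπ' f w fun g hg =>
        ⟨(hl g hg).choose, (hl g hg).choose_spec⟩ }⟩

/-- The category of adic systems with Noetherian components is abelian. -/
noncomputable def abelian : Abelian (AdicCat C J) := {}

lemma isNoetherianObject (Y : (AdicCat C J)) : IsNoetherianObject Y := by
  rw [isNoetherianObject_iff_monotone_chain_condition]
  intro F
  let Z : ℕ →o Subobject Y.obj := ⟨fun k => imageSubobject (F k).arrow.hom, fun i j h => by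
    rw [imageSubobject_le_iff]
    exact ImLE.of_eq (Subobject.ofLE _ _ (F.monotone h)).hom
      (congrArg InducedCategory.Hom.hom (Subobject.ofLE_arrow (F.monotone h))).symm⟩
  obtain ⟨k₀, hk₀⟩ := strictSub_chain_stationary Y.property Z fun k =>
    isStrict_of_epi (factorThruImageSubobject (F k).arrow.hom)
      (fun n => epi_app (factorThruImageSubobject (F k).arrow.hom) (op n))
      (isStrict_of_isAdic (F k : (AdicCat C J)).property.1)
  refine ⟨k₀, fun m hm => le_antisymm (F.monotone hm) ?_⟩
  obtain ⟨l, hl⟩ := exists_lift_of_mono (F k₀).arrow (F m).arrow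
    ((imageSubobject_le_iff _ _).1 (hk₀ m hm).le)
  exact Subobject.le_of_comm l hl

end Category

end Groth.Agent.Lib.AR
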