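import Groth.Agent.Lib.AR.Adic
import Mathlib.CategoryTheory.Subobject.NoetherianObject
import Mathlib.CategoryTheory.Subobject.ArtinianObject

/-!
# Chain conditions on objects
-/

universe w v u

open CategoryTheory CategoryTheory.Limits Opposite ARSys

namespace Groth.Agent.Lib.AR

attribute [local instance] Abelian.hasFiniteBiproducts

variable {C : Type u} [Category.{v} C] [Abelian C]

/-- The subobject `{x | i x ∈ S}` of the source of `i`. -/
noncomputable def preim {P X : C} (i : P ⟶ X) (S : Subobject X) : Subobject P :=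
  kernelSubobject (i ≫ cokernel.π S.arrow)

lemma imLE_preim_iff {P X T : C} (i : P ⟶ X) (S : Subobject X) (x : T ⟶ P) :
    ImLE x (preim i S).arrow ↔ ImLE (x ≫ i) S.arrow := by
  constructor
  · intro h
    have := h.comp_eq_zero (kernelSubobject_arrow_comp (i ≫ cokernel.π S.arrow))
    rwa [← Category.assoc] at this
  · intro h
    exact factors_iff.1 (kernelSubobject_factors _ x (by rw [← Category.assoc]; exact h))

lemma preim_mono {P X : C} (i : P ⟶ X) : Monotone (preim i) := fun S T h =>
  (subobject_le_iff _ _).2 ((imLE_preim_iff i T _).2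
    (((imLE_preim_iff i S _).1 (ImLE.refl _)).trans ((subobject_le_iff _ _).1 h)))

lemma preim_strictMono {P X : C} (p : P ⟶ X) [Epi p] : StrictMono (preim p) := by
  refine (preim_mono p).strictMono_of_injective fun S T h => ?_
  have key : ∀ {S T : Subobject X}, preim p S ≤ preim p T → S ≤ T := by
    intro S T hle
    rw [subobject_le_iff]
    obtain ⟨A, π, hπ, z, hz⟩ := surjective_up_to_refinements_of_epi p S.arrow
    have h1 : ImLE z (preim p S).arrow := (imLE_preim_iff p S z).2 (ImLE.of_eq π hz.symm)
    have h2 := (imLE_preim_iff p T z).1 (h1.trans ((subobject_le_iff _ _).1 hle))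
    rw [← hz] at h2
    exact ImLE.of_epi_left π h2
  exact le_antisymm (key h.le) (key h.ge)

/-- The map sending a subobject to its trace on `X₁` and its image in `X₃`. -/
noncomputable def traceImage (S : ShortComplex C) (U : Subobject S.X₂) :
    Subobject S.X₁ × Subobject S.X₃ :=
  (preim S.f U, imageSubobject (U.arrow ≫ S.g))

lemma traceImage_strictMono {S : ShortComplex C} (hS : S.Exact) : StrictMono (traceImage S) := by
  have hm : Monotone (traceImage S) := fun U V h =>
    ⟨preim_mono S.f h,
      (imageSubobject_le_iff _ _).2 (((subobject_le_iff _ _).1 h).comp S.g)⟩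
  intro U V hlt
  refine lt_of_le_of_ne (hm hlt.le) fun heq => hlt.not_ge ?_
  have hUV := (subobject_le_iff _ _).1 hlt.le
  have h₁ : preim S.f V ≤ preim S.f U := (congrArg Prod.fst heq).ge
  have h₂ : imageSubobject (V.arrow ≫ S.g) ≤ imageSubobject (U.arrow ≫ S.g) :=
    (congrArg Prod.snd heq).ge
  obtain ⟨A, π, hπ, z, hz⟩ := ((imageSubobject_le_iff _ _).1 h₂).exists_refinement
  obtain ⟨B, π', hπ', l, hl⟩ := hS.exact_up_to_refinements (π ≫ V.arrow - z ≫ U.arrow)
    (by rw [Preadditive.sub_comp, Category.assoc, Category.assoc, hz, sub_self])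
  have hd : ImLE (π ≫ V.arrow - z ≫ U.arrow) V.arrow :=
    ((ImLE.self_comp _ _).sub ((ImLE.self_comp _ _).trans hUV))
  have hlV : ImLE (l ≫ S.f) V.arrow := by
    rw [← hl]
    exact hd.comp_left π'
  have hlU := (imLE_preim_iff S.f U l).1
    (((imLE_preim_iff S.f V l).2 hlV).trans ((subobject_le_iff _ _).1 h₁))
  rw [← hl] at hlU
  have := (ImLE.of_epi_left π' hlU).add (ImLE.self_comp U.arrow z)
  rw [sub_add_cancel] at this
  exact (subobject_le_iff _ _).2 (ImLE.of_epi_left π this)

lemma isNoetherianObject_iff_wf (X : C) : IsNoetherianObject X ↔ WellFoundedGT (Subobject X) :=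
  isNoetherianObject.is_iff X

lemma isArtinianObject_iff_wf (X : C) : IsArtinianObject X ↔ WellFoundedLT (Subobject X) :=
  isArtinianObject.is_iff X

lemma isNoetherianObject_X₂ {S : ShortComplex C} (hS : S.Exact)
    (h₁ : IsNoetherianObject S.X₁) (h₃ : IsNoetherianObject S.X₃) : IsNoetherianObject S.X₂ :=
  (isNoetherianObject_iff_wf _).2 (traceImage_strictMono hS).wellFoundedGT

lemma isArtinianObject_X₂ {S : ShortComplex C} (hS : S.Exact)
    (h₁ : IsArtinianObject S.X₁) (h₃ : IsArtinianObject S.X₃) : IsArtinianObject S.X₂ :=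
  (isArtinianObject_iff_wf _).2 (traceImage_strictMono hS).wellFoundedLT

lemma isNoetherianObject_of_epi {P X : C} (p : P ⟶ X) [Epi p] (h : IsNoetherianObject P) :
    IsNoetherianObject X :=
  (isNoetherianObject_iff_wf _).2 (preim_strictMono p).wellFoundedGT

lemma isArtinianObject_of_epi {P X : C} (p : P ⟶ X) [Epi p] (h : IsArtinianObject P) :
    IsArtinianObject X :=
  (isArtinianObject_iff_wf _).2 (preim_strictMono p).wellFoundedLT

/-- A property of objects closed under subobjects, quotients and extensions. -/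
structure Closed (P : C → Prop) : Prop where
  zero : ∀ {X : C}, IsZero X → P X
  mono : ∀ {X Y : C} (i : X ⟶ Y) [Mono i], P Y → P X
  epi : ∀ {X Y : C} (p : X ⟶ Y) [Epi p], P X → P Y
  ext : ∀ {S : ShortComplex C}, S.Exact → P S.X₁ → P S.X₃ → P S.X₂

lemma closed_isNoetherianObject : Closed (fun X : C => IsNoetherianObject X) :=
  ⟨isNoetherianObject_of_isZero, fun i _ h => @isNoetherianObject_of_mono _ _ _ _ i _ h,
    fun p _ h => isNoetherianObject_of_epi p h, isNoetherianObject_X₂⟩

lemma closed_isArtinianObject : Closed (fun X : C => IsArtinianObject X) :=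
  ⟨isArtinianObject_of_isZero, fun i _ h => @isArtinianObject_of_mono _ _ _ _ i _ h,
    fun p _ h => isArtinianObject_of_epi p h, isArtinianObject_X₂⟩

namespace Closed

variable {P : C → Prop} (hP : Closed P)
include hP

lemma of_imLE {T R X : C} {f : T ⟶ X} [Mono f] {g : R ⟶ X} (h : ImLE f g) (hR : P R) : P T := by
  have h' : ImLE f (image.ι g) :=
    h.trans (ImLE.of_eq (factorThruImage g) (image.fac g).symm)
  have := mono_of_mono_fac h'.lift_comp
  exact hP.mono h'.lift (hP.epi (factorThruImage g) hR)

lemma biprod {X Y : C} (hX : P X) (hY : P Y) : P (X ⊞ Y) :=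
  hP.ext (S := ShortComplex.mk (biprod.inl : X ⟶ X ⊞ Y) biprod.snd biprod.inl_snd)
    (ShortComplex.Splitting.ofHasBinaryBiproduct X Y).shortExact.exact hX hY

lemma biproduct_fin : ∀ {n : ℕ} (f : Fin n → C), (∀ i, P (f i)) → P (⨁ f) := by
  intro n
  induction n with
  | zero =>
    intro f _
    exact hP.zero ((IsZero.iff_id_eq_zero _).2 (biproduct.hom_ext _ _ fun i => i.elim0))
  | succ n ih =>
    intro f hf
    let j : ⨁ f ⟶ f 0 ⊞ ⨁ (fun i : Fin n => f i.succ) :=
      CategoryTheory.Limits.biprod.lift (biproduct.π f 0)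
        (biproduct.lift fun i => biproduct.π f i.succ)
    have : Mono j := by
      refine Preadditive.mono_of_cancel_zero j fun {T} g hg => biproduct.hom_ext _ _ fun i => ?_
      rw [zero_comp]
      refine Fin.cases ?_ (fun i => ?_) i
      · simpa [j] using congrArg (fun t => t ≫ (CategoryTheory.Limits.biprod.fst)) hg
      · simpa [j] using congrArg
          (fun t => t ≫ CategoryTheory.Limits.biprod.snd ≫ biproduct.π _ i) hg
    exact hP.mono j (hP.biprod (hf 0) (ih _ fun i => hf i.succ))

lemma of_isAdic {A : Type w} [CommRing A] [IsNoetherianRing A] [Linear A C] {J : Ideal A}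
    {X : PS C} (hX : IsAdic J X) (h0 : P (X.obj (op 0))) : ∀ n : ℕ, P (X.obj (op n))
  | 0 => h0
  | k + 1 => by
    obtain ⟨d, g, hg⟩ := Submodule.fg_iff_exists_fin_generating_family.1
      (IsNoetherian.noetherian (J ^ (k + 1)))
    change Ideal.span (Set.range g) = J ^ (k + 1) at hg
    have hq := hX.2 k (k + 1) (Nat.le_succ k)
    have hk : LEI (J ^ (k + 1)) (kernel.ι (tr X (Nat.le_succ k))) :=
      isQuot_lei hq (kernel.condition _)
    rw [← hg, lei_span_iff] at hk
    have hq0 := hX.2 0 (k + 1) (Nat.zero_le _)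
    have he : ∀ i, HomKilledBy (J ^ (0 + 1)) (g i • 𝟙 (X.obj (op (k + 1)))) := fun i a ha => by
      rw [smul_smul]
      refine hX.1 (k + 1) _ ?_
      have : g i ∈ J ^ (k + 1) := hg ▸ Ideal.subset_span ⟨i, rfl⟩
      rw [zero_add, pow_one] at ha
      rw [pow_succ' J (k + 1)]
      exact Ideal.mul_mem_mul ha this
    have hle : ImLE (biproduct.desc fun i => g i • 𝟙 (X.obj (op (k + 1))))
        (biproduct.desc fun i => quotDesc hq0 _ (he i)) := by
      refine ImLE.of_eq (biproduct.map fun _ => tr X (Nat.zero_le (k + 1))) ?_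
      rw [biproduct.map_desc]
      simp only [quotDesc_fac]
    have hK : P (kernel (tr X (Nat.le_succ k))) :=
      hP.of_imLE (hk.trans hle) (hP.biproduct_fin _ fun _ => h0)
    exact hP.ext (S := ShortComplex.mk (kernel.ι (tr X (Nat.le_succ k))) _ (kernel.condition _))
      (ShortComplex.exact_of_f_is_kernel _ (kernelIsKernel _)) hK (of_isAdic hX h0 k)

end Closed

end Groth.Agent.Lib.AR
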