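import Groth.Agent.Lib.AR.Strict

/-!
# Systems adic up to translation with Noetherian components in exact sequences
-/

universe w v u

open CategoryTheory CategoryTheory.Limits Opposite ARSys

namespace Groth.Agent.Lib.AR

attribute [local instance] Abelian.hasFiniteBiproducts

variable {C : Type u} [Category.{v} C] [Abelian C]

/-- The preimage of the first term along an isomorphism up to translation into the middle term. -/
lemma exists_isARIso_kernel_comp {S : ShortComplex (PS C)} (hS : S.Exact) [Mono S.f] {Y : PS C}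
    (u : Y ⟶ S.X₂) (hu : IsARIso u) :
    ∃ φ : kernel (u ≫ S.g) ⟶ S.X₁, IsARIso φ ∧ φ ≫ S.f = kernel.ι (u ≫ S.g) ≫ u := by
  have hf := fun k => mono_app S.f (op k)
  obtain ⟨r, ⟨i⟩⟩ := exists_inv_of_isARIso hu
  let ι := kernel.ι (u ≫ S.g)
  have hι := fun k => mono_app ι (op k)
  let φ : kernel (u ≫ S.g) ⟶ S.X₁ := hS.lift (ι ≫ u) (by
    rw [Category.assoc]; exact kernel.condition _)
  have hφ : ∀ n, φ.app (op n) ≫ S.f.app (op n) = ι.app (op n) ≫ u.app (op n) := fun n =>
    congrArg (fun t => NatTrans.app t (op n)) (hS.lift_f (ι ≫ u) _)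
  have hl : ∀ n, ∃ l, l ≫ ι.app (op n) = S.f.app (op (n + r)) ≫ i.v n := fun n => by
    refine exists_kernel_lift_app (u ≫ S.g) (op n) _ ?_
    rw [NatTrans.comp_app, Category.assoc, i.vu_assoc, tr_app_assoc, ← NatTrans.comp_app, S.zero,
      zero_app, comp_zero]
  choose l hl using hl
  exact ⟨φ, HasInv.isARIso ⟨r, fun n => ⟨l n, by
      rw [← cancel_mono (S.f.app (op n)), Category.assoc, hφ, ← Category.assoc, hl, Category.assoc,
        i.vu, tr_app], by
      rw [← cancel_mono (ι.app (op n)), Category.assoc, hl, ← Category.assoc, hφ, Category.assoc,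
        i.uv, tr_app]⟩⟩, hS.lift_f _ _⟩

variable {A : Type w} [CommRing A] [Linear A C] {J : Ideal A}

lemma isMLAR_of_isARAdic {X : PS C} (h : IsARAdic J X) : IsMLAR X := by
  obtain ⟨-, Y, u, hY, hu⟩ := h
  exact isMLAR_of_strict_isARIso (isStrict_of_isAdic hY) hu

lemma isARAdic_of_isARIso {K X : PS C} (hK : IsARAdic J K) (kX : TermKilled J X) (φ : K ⟶ X)
    (hφ : IsARIso φ) : IsARAdic J X := by
  obtain ⟨-, Y, w, hY, hw⟩ := hK
  exact ⟨kX, Y, w ≫ φ, hY, isARIso_comp hw hφ⟩

/-- The adic system of a system adic up to translation has Noetherian components. -/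
lemma exists_isAdicNoeth_isARIso {X : PS C} (h : IsARAdicNoeth J X) :
    ∃ (Y : PS C) (u : Y ⟶ X), IsAdicNoeth J Y ∧ IsARIso u := by
  obtain ⟨⟨-, Y, u, hY, hu⟩, hn⟩ := h
  obtain ⟨r, ⟨i⟩⟩ := exists_inv_of_isARIso hu
  refine ⟨Y, u, ⟨hY, fun n => ?_⟩, hu⟩
  have := isQuot_epi (hY.2 n (n + r) (Nat.le_add_right n r))
  have : Epi (u.app (op (n + r)) ≫ i.v n) := by rw [i.uv]; infer_instance
  have : Epi (i.v n) := epi_of_epi (u.app (op (n + r))) _
  exact isNoetherianObject_of_epi (i.v n) (hn (n + r))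

lemma isARAdicNoeth_of_iso {X Y : PS C} (h : IsARAdicNoeth J X) (e : X ≅ Y) :
    IsARAdicNoeth J Y :=
  ⟨isARAdic_of_isARIso h.1 (termKilled_of_epi h.1.1 e.hom) e.hom (isARIso_of_isIso e.hom),
    fun n => have := epi_app e.hom (op n); isNoetherianObject_of_epi (e.hom.app (op n)) (h.2 n)⟩

lemma isAdapted_of_mono {K X : PS C} (hX : IsAdapted J X) (ι : K ⟶ X) [Mono ι] :
    IsAdapted J K := fun n p hp a ha => by
  have := mono_app ι (op n)
  rw [Linear.comp_smul, Category.comp_id, ← cancel_mono (ι.app (op n)), zero_comp]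
  have hle : ImLE ((Fsub K (n + 1 - p) n).arrow ≫ ι.app (op n)) (Fsub X (n + 1 - p) n).arrow := by
    rcases Nat.eq_zero_or_pos (n + 1 - p) with h0 | h0
    · rw [h0]; exact imLE_Fsub_zero _
    · obtain ⟨k, hk⟩ := Nat.exists_eq_add_of_le' h0
      have hkn : k ≤ n := by omega
      rw [hk, imLE_Fsub_iff hkn, Category.assoc, tr_app, ← Category.assoc, Fsub_arrow_comp_tr hkn,
        zero_comp]
  rw [Linear.smul_comp, ← hle.lift_comp, ← Linear.comp_smul]
  have := hX n p hp a ha
  rw [Linear.comp_smul, Category.comp_id] at this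
  rw [this, comp_zero]

variable [IsNoetherianRing A]

/-- A strict subsystem of an adic system with Noetherian components is adic up to translation. -/
theorem isARAdic_of_strict_sub {K Y : PS C} (hY : IsAdicNoeth J Y) (ι : K ⟶ Y) [Mono ι]
    (hK : IsStrict K) : IsARAdic J K := by
  have hι := fun k => mono_app ι (op k)
  have hA := isAdapted_of_isAdic hY.1
  have hAK := isAdapted_of_mono hA ι
  refine isARAdic_of_grsFiniteType (Or.inl (IsNoetherian.noetherian J)) hK hAK
    fun M hM hmono hlub => ?_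
  let N : ℕ → (q : ℕ) → Subobject (Y.obj (op q)) := fun i q =>
    imageSubobject ((M i q).arrow ≫ ι.app (op q))
  have hN : ∀ {i q : ℕ} {T : C} (x : T ⟶ Y.obj (op q)),
      ImLE x (N i q).arrow ↔ ImLE x ((M i q).arrow ≫ ι.app (op q)) := fun {i q T} x => by
    rw [← imageSubobject_le_subobject_iff, imageSubobject_le_iff]
  have hgr : ∀ i, IsGrSub J Y (N i) := fun i => by
    refine isGrSub_iff.2 ⟨fun q => ?_, fun p q a ha T x hx => ?_⟩
    · rw [imageSubobject_le_subobject_iff]
      have h1 := (subobject_le_iff _ _).1 ((hM i).1 q)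
      cases q with
      | zero => exact imLE_Fsub_zero _
      | succ k =>
        rw [imLE_Fsub_self_iff, Category.assoc, tr_app, ← Category.assoc,
          (imLE_Fsub_self_iff _).1 h1, zero_comp]
    · obtain ⟨T₁, π₁, hπ₁, z, hz⟩ := ((hN _).1 hx).exists_refinement
      have := hK q (p + q) (Nat.le_add_left q p)
      obtain ⟨T₂, π₂, hπ₂, z', hz'⟩ :=
        surjective_up_to_refinements_of_epi (tr K (Nat.le_add_left q p)) (z ≫ (M i q).arrow)
      have h0 : a • (π₂ ≫ π₁ ≫ x - z' ≫ ι.app (op (p + q))) = 0 := by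
        refine isAdapted_smul_eq_zero hA (Nat.le_add_left q p) le_rfl ?_ ha
        rw [Preadditive.sub_comp, Category.assoc, Category.assoc, Category.assoc, hz, tr_app,
          ← reassoc_of% hz', sub_self]
      rw [smul_sub, sub_eq_zero] at h0
      have hz'' : ImLE (a • z') (M i (p + q)).arrow :=
        (isGrSub_iff.1 (hM i)).2 p q a ha _ z' (ImLE.of_eq (π₂ ≫ z)
          (by rw [← hz', Category.assoc]))
      refine (hN _).2 (ImLE.of_epi_left (π₂ ≫ π₁) ?_)
      rw [Linear.comp_smul, Category.assoc, h0, ← Linear.smul_comp]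
      exact hz''.comp _
  obtain ⟨i₀, hi₀⟩ := grSub_chain_stationary hY N hgr fun i j hij q => by
    rw [imageSubobject_le_iff]
    exact ((subobject_le_iff _ _).1 (hmono hij q)).comp _
  refine ⟨i₀, fun q => le_antisymm ((hM i₀).1 q) ((hlub q).2 ?_)⟩
  rintro _ ⟨i, rfl⟩
  rcases le_total i i₀ with h | h
  · exact hmono h q
  · rw [subobject_le_iff]
    exact ImLE.of_mono ((imageSubobject_le_iff _ _).1 (congrFun (hi₀ i h) q).le)

theorem isARAdicNoeth_X₁ {S : ShortComplex (PS C)} (hS : S.ShortExact)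
    (h₂ : IsARAdicNoeth J S.X₂) (h₃ : IsARAdicNoeth J S.X₃) : IsARAdicNoeth J S.X₁ := by
  have := hS.mono_f
  refine ⟨?_, fun n => have := mono_app S.f (op n)
    closed_isNoetherianObject.mono (S.f.app (op n)) (h₂.2 n)⟩
  · have hML := isMLAR_X₁ hS h₂.1.1 (isMLAR_of_isARAdic h₂.1) h₃.1
    obtain ⟨Y, u, hY, hu⟩ := exists_isAdicNoeth_isARIso h₂
    obtain ⟨φ, hφ, -⟩ := exists_isARIso_kernel_comp hS.exact u hu
    obtain ⟨P, κ, hκm, hP, hκ⟩ :=
      exists_strict_mono_isARIso ((isMLAR_iff_of_isARIso hφ).2 hML)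
    exact isARAdic_of_isARIso (isARAdic_of_strict_sub hY (κ ≫ kernel.ι (u ≫ S.g)) hP)
      (termKilled_of_mono h₂.1.1 S.f) (κ ≫ φ) (isARIso_comp hκ hφ)

theorem isARAdicNoeth_kernel_cokernel {X Y : PS C} (u : X ⟶ Y) (hX : IsARAdicNoeth J X)
    (hY : IsARAdicNoeth J Y) : IsARAdicNoeth J (kernel u) ∧ IsARAdicNoeth J (cokernel u) := by
  let f := Abelian.factorThruImage u
  let m : Abelian.image u ⟶ Y := Abelian.image.ι u
  have hse : (ShortComplex.mk m (cokernel.π u) (kernel.condition _)).ShortExact :=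
    { exact := ShortComplex.exact_of_f_is_kernel _ (kernelIsKernel (cokernel.π u)) }
  have hQ : IsARAdicNoeth J (cokernel u) :=
    ⟨isARAdic_X₃ hse (termKilled_of_epi hY.1.1 (cokernel.π u))
        (isMLAR_of_epi f (isMLAR_of_isARAdic hX.1)) hY.1,
      fun n => have := epi_app (cokernel.π u) (op n)
        isNoetherianObject_of_epi ((cokernel.π u).app (op n)) (hY.2 n)⟩
  have hI : IsARAdicNoeth J (Abelian.image u) := isARAdicNoeth_X₁ hse hY hQ
  refine ⟨isARAdicNoeth_of_iso (isARAdicNoeth_X₁ (shortExact_kernel f) hX hI) ?_, hQ⟩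
  exact (kernelCompMono f m).symm ≪≫ kernelIsoOfEq (Abelian.image.fac u)

end Groth.Agent.Lib.AR
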