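import Groth.Agent.Lib.AR.ARAdic
import Groth.Agent.Lib.AR.ShortExact
import Groth.Agent.Lib.AR.Category
import Mathlib.CategoryTheory.Linear.LinearFunctor
import Mathlib.CategoryTheory.Preadditive.AdditiveFunctor
import Mathlib.CategoryTheory.Limits.Preserves.Finite
import Mathlib.CategoryTheory.Limits.Constructions.EpiMono

/-!
# Detecting adicity up to translation by a family of exact functors
-/

set_option autoImplicit false
set_option linter.style.haveILetI false

universe w v v' u u' t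

open CategoryTheory CategoryTheory.Limits Opposite ARSys

namespace Groth.Agent.Lib.AR

variable {C : Type u} [Category.{v} C] [Abelian C] {A : Type w} [CommRing A] [Linear A C]
  {J : Ideal A}

/-- Adic up to translation, with a bound on the translation. -/
def AdicBy (J : Ideal A) (X : PS C) (r : ℕ) : Prop :=
  ∃ (Y : PS C) (u : Y ⟶ X), IsAdic J Y ∧ Nonempty (Inv u r)

omit [Abelian C] [Linear A C] in
/-- An inverse of larger degree. -/
def Inv.mono {X Y : PS C} {u : X ⟶ Y} {r s : ℕ} (i : Inv u r) (h : r ≤ s) : Inv u s where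
  v n := tr Y (Nat.add_le_add_left h n) ≫ i.v n
  nat n m hnm := by rw [Category.assoc, i.nat, tr_comp_assoc, tr_comp_assoc]
  vu n := by rw [Category.assoc, i.vu, tr_comp]
  uv n := by rw [tr_app_assoc, i.uv, tr_comp]

omit [Abelian C] [Linear A C] in
/-- Composition with an isomorphism. -/
def Inv.postIso {X Y Y' : PS C} {u : X ⟶ Y} {r : ℕ} (i : Inv u r) (e : Y ≅ Y') :
    Inv (u ≫ e.hom) r where
  v n := e.inv.app (op (n + r)) ≫ i.v n
  nat n m h := by rw [Category.assoc, i.nat, tr_app_assoc]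
  vu n := by
    rw [NatTrans.comp_app, Category.assoc, i.vu_assoc, ← tr_app, Iso.inv_hom_id_app_assoc]
  uv n := by
    rw [NatTrans.comp_app, Category.assoc, Iso.hom_inv_id_app_assoc, i.uv]

theorem AdicBy.mono {X : PS C} {r s : ℕ} (h : AdicBy J X r) (hrs : r ≤ s) : AdicBy J X s := by
  obtain ⟨Y, u, hY, ⟨i⟩⟩ := h
  exact ⟨Y, u, hY, ⟨i.mono hrs⟩⟩

theorem AdicBy.of_iso {X X' : PS C} {r : ℕ} (h : AdicBy J X r) (e : X ≅ X') : AdicBy J X' r := by
  obtain ⟨Y, u, hY, ⟨i⟩⟩ := h
  exact ⟨Y, u ≫ e.hom, hY, ⟨i.postIso e⟩⟩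

theorem AdicBy.mlBy {X : PS C} {r : ℕ} (h : AdicBy J X r) : MLBy X r := by
  obtain ⟨Y, u, hY, ⟨k⟩⟩ := h
  simpa using MLBy.map_inv k (MLBy.of_isStrict (isStrict_of_isAdic hY))

theorem adicBy_of_isARAdic {X : PS C} (h : IsARAdic J X) : ∃ r, AdicBy J X r := by
  obtain ⟨-, Y, u, hY, hu⟩ := h
  obtain ⟨r, hr⟩ := exists_inv_of_isARIso hu
  exact ⟨r, Y, u, hY, hr⟩

section Map

variable {D : Type u'} [Category.{v'} D] (L : C ⥤ D)

omit [Abelian C] [Linear A C] in
/-- The image of an inverse under a functor. -/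
def Inv.map {X Y : PS C} {u : X ⟶ Y} {r : ℕ} (i : Inv u r) :
    Inv (Functor.whiskerRight u L) r where
  v n := L.map (i.v n)
  nat n m h := by
    change L.map (i.v m) ≫ L.map (tr X h) = L.map (tr Y _) ≫ L.map (i.v n)
    rw [← L.map_comp, ← L.map_comp, i.nat]
  vu n := by
    change L.map (i.v n) ≫ L.map (u.app (op n)) = L.map (tr Y _)
    rw [← L.map_comp, i.vu]
  uv n := by
    change L.map (u.app (op (n + r))) ≫ L.map (i.v n) = L.map (tr X _)
    rw [← L.map_comp, i.uv]

variable [Abelian D] [L.Additive]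

theorem map_eq_zero_of_imLE {P Q X : C} {f : P ⟶ X} {g : Q ⟶ X} (h : ImLE (L.map f) (L.map g)) :
    L.map (f ≫ cokernel.π g) = 0 := by
  rw [L.map_comp, ← π_comp_cokernelComparison g L, ← Category.assoc, h, zero_comp]

variable [Linear A D] [L.Linear A]

theorem homKilledBy_map {I : Ideal A} {X Y : C} {φ : X ⟶ Y} (h : HomKilledBy I φ) :
    HomKilledBy I (L.map φ) := fun a ha => by rw [← L.map_smul, h a ha, L.map_zero]

theorem killedBy_functor {I : Ideal A} {X : C} (h : KilledBy I X) : KilledBy I (L.obj X) :=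
  fun a ha => by rw [← CategoryTheory.Functor.map_id, ← L.map_smul, h a ha, L.map_zero]

end Map

/-- The lift of an isomorphism up to translation through another one, with its inverse. -/
theorem nonempty_inv_lift {W P K : PS C} {w : W ⟶ P} {u : P ⟶ K} {φ : W ⟶ K} (hw : w ≫ u = φ)
    {r s : ℕ} (j : Inv φ r) (i : Inv u s) : Nonempty (Inv w (s + r)) := by
  have hwn : ∀ n, w.app (op n) ≫ u.app (op n) = φ.app (op n) := fun n =>
    congrArg (fun t => NatTrans.app t (op n)) hw
  refine ⟨{ v := fun n => tr P (show n + s + r ≤ n + (s + r) by omega) ≫ u.app (op (n + s + r)) ≫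
              j.v (n + s) ≫ tr W (Nat.le_add_right n s)
            nat := fun n m h => ?_
            vu := fun n => ?_
            uv := fun n => ?_ }⟩
  · simp only [Category.assoc, tr_comp]
    rw [← tr_comp W (Nat.le_add_right n s) (Nat.add_le_add_right h s), j.nat_assoc, tr_app_assoc,
      tr_comp_assoc, tr_comp_assoc]
  · simp only [Category.assoc]
    have h1 : w.app (op (n + s)) ≫ tr P (Nat.le_add_right n s) =
        φ.app (op (n + s)) ≫ i.v n := by rw [← hwn, Category.assoc, i.uv]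
    rw [← tr_app, h1, j.vu_assoc, tr_app_assoc, i.uv, tr_comp, tr_comp]
  · rw [tr_app_assoc, ← Category.assoc (w.app _), hwn, j.uv_assoc, tr_comp, tr_comp]

variable {ι : Type t} {D : ι → Type u'} [∀ i, Category.{v'} (D i)] [∀ i, Abelian (D i)]
  [∀ i, Linear A (D i)] (L : ∀ i, C ⥤ D i) [∀ i, (L i).Additive] [∀ i, (L i).Linear A]
  [∀ i, PreservesFiniteLimits (L i)] [∀ i, PreservesFiniteColimits (L i)]

/-- A system is adic up to translation if it is so, uniformly, after a jointly faithful family of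
exact functors. -/
theorem isARAdic_of_detect (hJ : J.FG ∨ HasCoproducts.{w} C)
    (det : ∀ {P Q : C} (φ : P ⟶ Q), (∀ i, (L i).map φ = 0) → φ = 0)
    {F : PS C} (kF : TermKilled J F) {r : ℕ} (h : ∀ i, AdicBy J (F ⋙ L i) r) : IsARAdic J F := by
  have hML : MLBy F r := fun n m hnm hm => det _ fun i => by
    refine map_eq_zero_of_imLE (L i) ?_
    exact (h i).mlBy n m hnm hm
  let P := uImage F r
  let ι₀ : P ⟶ F := uImageι F r
  obtain ⟨s, ⟨k₀⟩⟩ := exists_inv_of_isARIso (uImage_isARIso F r)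
  have kP : TermKilled J P := termKilled_of_mono kF ι₀
  have hP : IsStrict P := uImage_isStrict hML
  refine isARAdic_of_isARIso (isARAdic_of_lei_Fker hJ hP kP (r := s + r + 1) fun n => ?_) kF ι₀
    (uImage_isARIso F r)
  intro Z φ hφ
  refine det _ fun i => ?_
  obtain ⟨Y, v, hY, ⟨j⟩⟩ := h i
  have kPL : TermKilled J (P ⋙ L i) := fun m => killedBy_functor (L i) (kP m)
  have kFL : TermKilled J (F ⋙ L i) := fun m => killedBy_functor (L i) (kF m)
  have sPL : IsStrict (P ⋙ L i) := fun a b hab =>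
    haveI := hP a b hab
    inferInstanceAs (Epi ((L i).map (tr P hab)))
  let k₁ : Inv (Functor.whiskerRight ι₀ (L i)) s := k₀.map (L i)
  obtain ⟨w, hw, -⟩ := existsUnique_lift_of_isARIso hY kPL kFL k₁.isARIso v
  obtain ⟨k₂⟩ := nonempty_inv_lift hw j k₁
  have hlei := lei_Fker_of_inv sPL hY k₂ n ((L i).obj Z) ((L i).map φ) (homKilledBy_map (L i) hφ)
  have hfac : ImLE ((L i).map (Fker P n).arrow) (Fker (P ⋙ L i) n).arrow := by
    cases n with
    | zero =>
      haveI : IsIso (Fker (P ⋙ L i) 0).arrow :=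
        inferInstanceAs (IsIso (⊤ : Subobject ((P ⋙ L i).obj (op 0))).arrow)
      exact ImLE.of_eq ((L i).map (Fker P 0).arrow ≫ inv (Fker (P ⋙ L i) 0).arrow) (by simp)
    | succ k =>
      refine factors_iff.1 (kernelSubobject_factors _ _ ?_)
      change (L i).map (kernelSubobject (tr P (Nat.le_succ k))).arrow ≫
        (L i).map (tr P (Nat.le_succ k)) = 0
      rw [← (L i).map_comp, kernelSubobject_arrow_comp, (L i).map_zero]
  rw [(L i).map_comp]
  exact hfac.comp_eq_zero hlei

/-- The version for a finite family. -/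
theorem isARAdic_of_detect_finite [Finite ι] (hJ : J.FG ∨ HasCoproducts.{w} C)
    (det : ∀ {P Q : C} (φ : P ⟶ Q), (∀ i, (L i).map φ = 0) → φ = 0)
    {F : PS C} (kF : TermKilled J F) (h : ∀ i, IsARAdic J (F ⋙ L i)) : IsARAdic J F := by
  choose r hr using fun i => adicBy_of_isARAdic (h i)
  obtain ⟨R, hR⟩ := Finite.exists_le r
  exact isARAdic_of_detect L hJ det kF fun i => (hr i).mono (hR i)

end Groth.Agent.Lib.AR
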