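import Mathlib.CategoryTheory.Abelian.Refinements
import Mathlib.CategoryTheory.Abelian.Exact
import Mathlib.CategoryTheory.Abelian.FunctorCategory
import Mathlib.CategoryTheory.Subobject.Limits
import Mathlib.CategoryTheory.Preadditive.Biproducts

/-!
# Inclusion of images of morphisms in an abelian category
-/

universe v u

open CategoryTheory CategoryTheory.Limits

namespace Groth.Agent.Lib.AR

attribute [local instance] Abelian.hasFiniteBiproducts

variable {C : Type u} [Category.{v} C] [Abelian C] {X Y P Q R : C}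

/-- The image of `f` is contained in the image of `g`. -/
def ImLE (f : P ⟶ X) (g : Q ⟶ X) : Prop := f ≫ cokernel.π g = 0

namespace ImLE

lemma of_eq {f : P ⟶ X} {g : Q ⟶ X} (z : P ⟶ Q) (h : f = z ≫ g) : ImLE f g := by
  rw [ImLE, h, Category.assoc, cokernel.condition, comp_zero]

lemma refl (f : P ⟶ X) : ImLE f f := cokernel.condition f

lemma comp_eq_zero {f : P ⟶ X} {g : Q ⟶ X} (h : ImLE f g) {φ : X ⟶ Y} (hφ : g ≫ φ = 0) :
    f ≫ φ = 0 := by
  rw [← cokernel.π_desc g φ hφ, ← Category.assoc, h, zero_comp]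

lemma exists_refinement {f : P ⟶ X} {g : Q ⟶ X} (h : ImLE f g) :
    ∃ (T : C) (π : T ⟶ P) (_ : Epi π) (z : T ⟶ Q), π ≫ f = z ≫ g :=
  (ShortComplex.exact_of_g_is_cokernel (ShortComplex.mk g (cokernel.π g) (cokernel.condition g))
    (cokernelIsCokernel g)).exact_up_to_refinements f h

lemma of_refinement {f : P ⟶ X} {g : Q ⟶ X} {T : C} (π : T ⟶ P) [Epi π] (z : T ⟶ Q)
    (h : π ≫ f = z ≫ g) : ImLE f g := by
  rw [ImLE, ← cancel_epi π, ← Category.assoc, h, Category.assoc, cokernel.condition, comp_zero,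
    comp_zero]

lemma trans {f : P ⟶ X} {g : Q ⟶ X} {k : R ⟶ X} (h₁ : ImLE f g) (h₂ : ImLE g k) : ImLE f k :=
  h₁.comp_eq_zero h₂

lemma comp {f : P ⟶ X} {g : Q ⟶ X} (h : ImLE f g) (φ : X ⟶ Y) : ImLE (f ≫ φ) (g ≫ φ) := by
  refine (Category.assoc _ _ _).trans (h.comp_eq_zero ?_)
  rw [← Category.assoc, cokernel.condition]

lemma comp_left {f : P ⟶ X} {g : Q ⟶ X} (h : ImLE f g) (z : R ⟶ P) : ImLE (z ≫ f) g := by
  rw [ImLE, Category.assoc, h, comp_zero]

lemma of_epi_left {f : P ⟶ X} {g : Q ⟶ X} (π : R ⟶ P) [Epi π] (h : ImLE (π ≫ f) g) :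
    ImLE f g := by
  rw [ImLE, ← cancel_epi π, ← Category.assoc, h, comp_zero]

lemma self_comp (f : P ⟶ X) (z : R ⟶ P) : ImLE (z ≫ f) f := of_eq z rfl

lemma le_epi_comp (f : P ⟶ X) (π : R ⟶ P) [Epi π] : ImLE f (π ≫ f) :=
  of_epi_left π (refl _)

lemma zero (g : Q ⟶ X) : ImLE (0 : P ⟶ X) g := zero_comp

lemma add {f f' : P ⟶ X} {g : Q ⟶ X} (h : ImLE f g) (h' : ImLE f' g) : ImLE (f + f') g := by
  rw [ImLE, Preadditive.add_comp, h, h', add_zero]

lemma sub {f f' : P ⟶ X} {g : Q ⟶ X} (h : ImLE f g) (h' : ImLE f' g) : ImLE (f - f') g := by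
  rw [ImLE, Preadditive.sub_comp, h, h', sub_zero]

lemma eq_zero {f : P ⟶ X} (h : ImLE f (0 : Q ⟶ X)) : f = 0 :=
  (Category.comp_id f).symm.trans (h.comp_eq_zero zero_comp)

/-- If a monomorphism has image in that of `f ≫ m`, then `f` is an epimorphism. -/
lemma epi_of_le_comp {f : P ⟶ Q} {m : Q ⟶ X} [Mono m] (h : ImLE m (f ≫ m)) : Epi f := by
  obtain ⟨T, π, hπ, z, hz⟩ := h.exists_refinement
  rw [← Category.assoc, cancel_mono] at hz
  have : Epi (z ≫ f) := hz ▸ hπ
  exact epi_of_epi z f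

lemma of_mono {f : P ⟶ X} {g : Q ⟶ X} {m : X ⟶ Y} [Mono m] (h : ImLE (f ≫ m) (g ≫ m)) :
    ImLE f g := by
  obtain ⟨T, π, hπ, z, hz⟩ := h.exists_refinement
  rw [← Category.assoc, ← Category.assoc, cancel_mono] at hz
  exact of_refinement π z hz

/-- The lift through a monomorphism. -/
noncomputable def lift {f : P ⟶ X} {g : Q ⟶ X} [Mono g] (h : ImLE f g) : P ⟶ Q :=
  Abelian.monoLift g f h

@[reassoc (attr := simp)]
lemma lift_comp {f : P ⟶ X} {g : Q ⟶ X} [Mono g] (h : ImLE f g) : h.lift ≫ g = f :=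
  Abelian.monoLift_comp g f h

end ImLE

lemma imageSubobject_le_iff (f : P ⟶ X) (g : Q ⟶ X) :
    imageSubobject f ≤ imageSubobject g ↔ ImLE f g := by
  constructor
  · intro h
    refine (ImLE.of_eq (factorThruImageSubobject f ≫ Subobject.ofLE _ _ h) ?_ : ImLE f
      (imageSubobject g).arrow).trans
      (ImLE.of_epi_left (factorThruImageSubobject g) ((imageSubobject_arrow_comp g).symm ▸ ImLE.refl g))
    rw [Category.assoc, Subobject.ofLE_arrow, imageSubobject_arrow_comp]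
  · intro h
    have h' : ImLE f (imageSubobject g).arrow :=
      h.trans (ImLE.of_eq (factorThruImageSubobject g) (imageSubobject_arrow_comp g).symm)
    exact imageSubobject_le f h'.lift h'.lift_comp

lemma imageSubobject_eq_iff (f : P ⟶ X) (g : Q ⟶ X) :
    imageSubobject f = imageSubobject g ↔ ImLE f g ∧ ImLE g f := by
  rw [le_antisymm_iff, imageSubobject_le_iff, imageSubobject_le_iff]

lemma imageSubobject_le_subobject_iff (f : P ⟶ X) (S : Subobject X) :
    imageSubobject f ≤ S ↔ ImLE f S.arrow := by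
  conv_lhs => rw [← Subobject.mk_arrow S, ← imageSubobject_mono S.arrow]
  exact imageSubobject_le_iff f S.arrow

lemma factors_iff {f : P ⟶ X} {S : Subobject X} : S.Factors f ↔ ImLE f S.arrow := by
  constructor
  · intro h
    exact ImLE.of_eq (S.factorThru f h) (S.factorThru_arrow f h).symm
  · intro h
    exact (Subobject.factors_iff S f).2 ⟨h.lift, h.lift_comp⟩

lemma subobject_le_iff (S T : Subobject X) : S ≤ T ↔ ImLE S.arrow T.arrow :=
  ⟨fun h => ImLE.of_eq (Subobject.ofLE S T h) (Subobject.ofLE_arrow h).symm,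
    fun h => Subobject.le_of_comm h.lift h.lift_comp⟩

/-- Membership in a finite sum of images. -/
lemma imLE_biproduct_desc {ι : Type} [Fintype ι] {F : ι → C} (f : ∀ i, F i ⟶ X) {T : C}
    (z : ∀ i, T ⟶ F i) : ImLE (∑ i, z i ≫ f i) (biproduct.desc f) := by
  rw [ImLE, Preadditive.sum_comp]
  refine Finset.sum_eq_zero fun i _ => ?_
  rw [Category.assoc, ← biproduct.ι_desc f i, Category.assoc, cokernel.condition, comp_zero,
    comp_zero]

lemma biproduct_desc_comp_eq_zero_iff {ι : Type} [Finite ι] {F : ι → C} (f : ∀ i, F i ⟶ X)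
    (φ : X ⟶ Y) : biproduct.desc f ≫ φ = 0 ↔ ∀ i, f i ≫ φ = 0 := by
  refine ⟨fun h i => ?_, fun h => ?_⟩
  · rw [← biproduct.ι_desc f i, Category.assoc, h, comp_zero]
  · refine biproduct.hom_ext' _ _ fun i => ?_
    rw [biproduct.ι_desc_assoc, h i, comp_zero]

lemma biprod_desc_comp_eq_zero_iff (f : P ⟶ X) (g : Q ⟶ X) (φ : X ⟶ Y) :
    biprod.desc f g ≫ φ = 0 ↔ f ≫ φ = 0 ∧ g ≫ φ = 0 := by
  refine ⟨fun h => ⟨?_, ?_⟩, fun h => ?_⟩
  · rw [← biprod.inl_desc f g, Category.assoc, h, comp_zero]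
  · rw [← biprod.inr_desc f g, Category.assoc, h, comp_zero]
  · apply biprod.hom_ext' <;> simp [h.1, h.2]

section Functor

variable {J : Type*} [Category J]

lemma exact_app {S : ShortComplex (J ⥤ C)} (h : S.Exact) (j : J) :
    (ShortComplex.mk (S.f.app j) (S.g.app j)
      (by rw [← NatTrans.comp_app, S.zero]; rfl)).Exact :=
  h.map ((evaluation J C).obj j)

lemma mono_app {F G : J ⥤ C} (f : F ⟶ G) [Mono f] (j : J) : Mono (f.app j) :=
  inferInstanceAs (Mono (((evaluation J C).obj j).map f))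

lemma epi_app {F G : J ⥤ C} (f : F ⟶ G) [Epi f] (j : J) : Epi (f.app j) :=
  inferInstanceAs (Epi (((evaluation J C).obj j).map f))

lemma imLE_app {F G H : J ⥤ C} {f : F ⟶ H} {g : G ⟶ H} (h : ImLE f g) (j : J) :
    ImLE (f.app j) (g.app j) := by
  obtain ⟨T, π, hπ, z, hz⟩ := h.exists_refinement
  have := epi_app π j
  exact ImLE.of_refinement (π.app j) (z.app j) (congrArg (fun t => NatTrans.app t j) hz)

lemma imLE_of_app {F G H : J ⥤ C} {f : F ⟶ H} {g : G ⟶ H}
    (h : ∀ j, ImLE (f.app j) (g.app j)) : ImLE f g := by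
  ext j
  rw [NatTrans.comp_app]
  exact (h j).comp_eq_zero (congrArg (fun t => NatTrans.app t j) (cokernel.condition g))

end Functor

end Groth.Agent.Lib.AR
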