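import Groth.Agent.Lib.AR.ARAdic
import Groth.Agent.Lib.AR.Chain
import Mathlib.Algebra.Order.Antidiag.Pi
import Mathlib.Order.WellQuasiOrder

/-!
# The strict graded object of a projective system
-/

universe w v u

open CategoryTheory CategoryTheory.Limits Opposite ARSys

namespace Groth.Agent.Lib.AR

attribute [local instance] Abelian.hasFiniteBiproducts

lemma imLE_pullback_iff {C : Type u} [Category.{v} C] [Abelian C] {X Y T : C} (f : X ⟶ Y)
    (y : Subobject Y) (x : T ⟶ X) :
    ImLE x ((Subobject.pullback f).obj y).arrow ↔ ImLE (x ≫ f) y.arrow := by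
  have w := (Subobject.isPullback f y).w
  refine ⟨fun h => ?_, fun h => ?_⟩
  · refine (h.comp f).trans (ImLE.of_eq _ w.symm)
  · exact ImLE.of_eq ((Subobject.isPullback f y).lift h.lift x h.lift_comp)
      ((Subobject.isPullback f y).lift_snd _ _ _).symm

variable {C : Type u} [Category.{v} C] [Abelian C] {A : Type w} [CommRing A] [Linear A C]
  {J : Ideal A} {X : PS C}

lemma imLE_smul_iff {P T Y : C} {k : P ⟶ Y} {S : Subobject Y} {a : A} :
    ImLE (a • k) S.arrow ↔ k ≫ (a • cokernel.π S.arrow) = 0 := by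
  rw [ImLE, Linear.smul_comp, Linear.comp_smul]

lemma isGrSub_iff {M : (q : ℕ) → Subobject (X.obj (op q))} :
    IsGrSub J X M ↔ (∀ q, M q ≤ Fsub X q q) ∧
      ∀ (p q : ℕ), ∀ a ∈ J ^ p, ∀ (T : C) (x : T ⟶ X.obj (op (p + q))),
        ImLE (x ≫ tr X (Nat.le_add_left q p)) (M q).arrow → ImLE (a • x) (M (p + q)).arrow := by
  refine and_congr_right fun _ => forall_congr' fun p => forall_congr' fun q =>
    forall_congr' fun a => imp_congr_right fun _ => ?_
  rw [imageSubobject_le_subobject_iff, Linear.comp_smul, Category.comp_id]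
  refine ⟨fun h T x hx => ?_, fun h => h _ _ ((imLE_pullback_iff _ _ _).1 (ImLE.refl _))⟩
  have hx' := (imLE_pullback_iff _ _ x).2 hx
  rw [← hx'.lift_comp, ← Linear.comp_smul]
  exact h.comp_left _

lemma smul_mem_of_isGrSub {M : (q : ℕ) → Subobject (X.obj (op q))} (hM : IsGrSub J X M)
    {p q n : ℕ} (h : q ≤ n) (e : p + q = n) {a : A} (ha : a ∈ J ^ p) {T : C}
    {x : T ⟶ X.obj (op n)} (hx : ImLE (x ≫ tr X h) (M q).arrow) :
    ImLE (a • x) (M n).arrow := by
  subst e
  exact (isGrSub_iff.1 hM).2 p q a ha T x hx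

/-- A morphism lands in `F^q`. -/
lemma imLE_Fsub_self_iff {k : ℕ} {T : C} (x : T ⟶ X.obj (op (k + 1))) :
    ImLE x (Fsub X (k + 1) (k + 1)).arrow ↔ x ≫ tr X (Nat.le_succ k) = 0 :=
  imLE_Fsub_iff _ x

lemma Fsub_arrow_eq_zero {q n : ℕ} (h : n < q) : (Fsub X q n).arrow = 0 := by
  obtain ⟨k, rfl⟩ := Nat.exists_eq_add_of_lt h
  by_cases hk : k = 0
  · subst hk
    have h0 := Fsub_arrow_comp_tr (X := X) (le_refl n)
    rwa [tr_self, Category.comp_id] at h0
  · rw [Fsub, dif_neg (by omega)]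
    exact Subobject.bot_arrow

lemma isAdapted_iff : IsAdapted J X ↔ ∀ (n p q : ℕ), ∀ a ∈ J ^ p,
    imageSubobject ((Fsub X q n).arrow ≫ (a • 𝟙 (X.obj (op n)))) ≤ Fsub X (p + q) n := by
  simp only [imageSubobject_le_subobject_iff, Linear.comp_smul, Category.comp_id]
  refine ⟨fun hX n p q a ha => ?_, fun h n p hp a ha => ?_⟩
  · have hzero : ∀ {q' : ℕ}, n + 1 ≤ p + q' → a • (Fsub X q' n).arrow = 0 := by
      intro q' hq'
      by_cases hn : n < q'
      · rw [Fsub_arrow_eq_zero hn, smul_zero]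
      · cases q' with
        | zero =>
          exact killedBy_smul_eq_zero (termKilled_of_isAdapted hX n)
            (Ideal.pow_le_pow_right (by omega) ha) _
        | succ j =>
          exact isAdapted_smul_eq_zero hX (show j ≤ n by omega) (by omega) (Fsub_arrow_comp_tr _) ha
    rcases Nat.eq_zero_or_pos (p + q) with h0 | h0
    · rw [h0]
      exact imLE_Fsub_zero _
    obtain ⟨m, hm⟩ := Nat.exists_eq_add_of_le' h0
    by_cases hmn : m ≤ n
    · rw [hm, imLE_Fsub_iff hmn, Linear.smul_comp]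
      cases q with
      | zero =>
        exact killedBy_smul_eq_zero (termKilled_of_isAdapted hX m)
          (Ideal.pow_le_pow_right (by omega) ha) _
      | succ j =>
        refine isAdapted_smul_eq_zero hX (show j ≤ m by omega) (by omega) ?_ ha
        rw [Category.assoc, tr_comp, Fsub_arrow_comp_tr]
    · rw [hzero (by omega)]
      exact ImLE.zero _
  · have h1 := h n p (n + 1 - p) a ha
    rw [show p + (n + 1 - p) = n + 1 by omega, Fsub_arrow_eq_zero (Nat.lt_succ_self n)] at h1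
    rw [Linear.comp_smul, Category.comp_id]
    exact h1.eq_zero

section Monomials

variable {d : ℕ}

/-- The total degree of an exponent. -/
def mdeg (α : Fin d → ℕ) : ℕ := ∑ i, α i

/-- The monomial attached to an exponent. -/
def mon (g : Fin d → A) (α : Fin d → ℕ) : A := ∏ i, g i ^ α i

/-- The exponents of a given degree. -/
def expsOfDeg (d q : ℕ) : Finset (Fin d → ℕ) := Finset.univ.piAntidiag q

lemma mem_expsOfDeg {q : ℕ} {α : Fin d → ℕ} : α ∈ expsOfDeg d q ↔ mdeg α = q := by
  simp [expsOfDeg, mdeg]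

omit [Category.{v} C] in
lemma mon_add (g : Fin d → A) (α β : Fin d → ℕ) : mon g (α + β) = mon g α * mon g β := by
  simp [mon, pow_add, Finset.prod_mul_distrib]

lemma mdeg_add (α β : Fin d → ℕ) : mdeg (α + β) = mdeg α + mdeg β := by
  simp [mdeg, Finset.sum_add_distrib]

lemma mon_mem (g : Fin d → A) (α : Fin d → ℕ) : mon g α ∈ Ideal.span (Set.range g) ^ mdeg α := by
  rw [mdeg, ← Finset.prod_pow_eq_pow_sum]
  exact Ideal.prod_mem_prod fun i _ => Ideal.pow_mem_pow (Ideal.subset_span (Set.mem_range_self i)) _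

lemma pow_span_eq (g : Fin d → A) (q : ℕ) : Ideal.span (Set.range g) ^ q =
    Ideal.span (Set.range fun α : expsOfDeg d q => mon g α) := by
  refine le_antisymm ?_ (Ideal.span_le.2 ?_)
  · induction q with
    | zero =>
      have : mon g (0 : Fin d → ℕ) = 1 := by simp [mon]
      rw [pow_zero, Ideal.one_eq_top]
      refine ((Ideal.eq_top_iff_one _).2 (Ideal.subset_span ?_)).ge
      exact ⟨⟨0, mem_expsOfDeg.2 (by simp [mdeg])⟩, this⟩
    | succ q ih =>
      rw [pow_succ]
      refine (Ideal.mul_mono ih le_rfl).trans ?_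
      rw [Ideal.span_mul_span', Ideal.span_le]
      rintro _ ⟨_, ⟨⟨α, hα⟩, rfl⟩, _, ⟨i, rfl⟩, rfl⟩
      refine Ideal.subset_span ⟨⟨α + Pi.single i 1, mem_expsOfDeg.2 ?_⟩, ?_⟩
      · rw [mdeg_add, mem_expsOfDeg.1 hα]
        simp [mdeg, Finset.sum_pi_single']
      · show mon g (α + Pi.single i 1) = mon g α * g i
        rw [mon_add]
        simp [mon, Pi.single_apply, pow_ite, Finset.prod_ite_eq']
  · rintro _ ⟨α, rfl⟩
    have := mon_mem g (α : Fin d → ℕ)
    rwa [mem_expsOfDeg.1 α.2] at this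

lemma toLex_add_lt {α β : Fin d → ℕ} (h : toLex α < toLex β) (γ : Fin d → ℕ) :
    toLex (α + γ) < toLex (β + γ) := by
  obtain ⟨i, hi, hlt⟩ := h
  exact ⟨i, fun j hj => by
      show α j + γ j = β j + γ j
      exact congrArg (· + γ j) (hi j hj),
    Nat.add_lt_add_right hlt (γ i)⟩

variable (hX : IsAdic J X) {g : Fin d → A} (hg : Ideal.span (Set.range g) = J)

/-- Multiplication by a monomial, as a map from the degree zero term. -/
noncomputable def monMap {q : ℕ} (α : Fin d → ℕ) (h : mdeg α = q) :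
    X.obj (op 0) ⟶ X.obj (op q) :=
  quotDesc (hX.2 0 q (Nat.zero_le q)) (mon g α • 𝟙 (X.obj (op q))) (fun a ha => by
    rw [smul_smul]
    refine hX.1 q _ ?_
    rw [pow_succ' J q]
    have := mon_mem g α
    rw [hg, h] at this
    exact Ideal.mul_mem_mul (by simpa using ha) this)

lemma monMap_spec {q : ℕ} (α : Fin d → ℕ) (h : mdeg α = q) :
    tr X (Nat.zero_le q) ≫ monMap hX hg α h = mon g α • 𝟙 (X.obj (op q)) :=
  quotDesc_fac _ _ _

/-- `x` lies in `M + ∑_{β ∈ s} e_β X₀`. -/
def InSum {q : ℕ} (M : Subobject (X.obj (op q))) (s : (Fin d → ℕ) → Prop) {T : C}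
    (x : T ⟶ X.obj (op q)) : Prop :=
  ∀ ⦃Y : C⦄ (φ : X.obj (op q) ⟶ Y), M.arrow ≫ φ = 0 →
    (∀ β h, s β → monMap hX hg β h ≫ φ = 0) → x ≫ φ = 0

lemma exists_inSum_map {q : ℕ} (M : Subobject (X.obj (op q))) (s : (Fin d → ℕ) → Prop) :
    ∃ (R : C) (f : R ⟶ X.obj (op q)), ∀ (T : C) (x : T ⟶ X.obj (op q)),
      InSum hX hg M s x ↔ ImLE x f := by
  classical
  let F := fun β : {β : expsOfDeg d q // s β.1} => monMap hX hg β.1.1 (mem_expsOfDeg.1 β.1.2)
  refine ⟨_, biprod.desc M.arrow (biproduct.desc F), fun T x => ⟨fun h => ?_, fun h Y φ h1 h2 => ?_⟩⟩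
  · obtain ⟨c1, c2⟩ := (biprod_desc_comp_eq_zero_iff M.arrow (biproduct.desc F) _).1
      (cokernel.condition (biprod.desc M.arrow (biproduct.desc F)))
    exact h _ c1 fun β hβ hs =>
      (biproduct_desc_comp_eq_zero_iff F _).1 c2 ⟨⟨β, mem_expsOfDeg.2 hβ⟩, hs⟩
  · exact h.comp_eq_zero ((biprod_desc_comp_eq_zero_iff _ _ _).2 ⟨h1,
      (biproduct_desc_comp_eq_zero_iff F _).2 fun β => h2 _ _ β.2⟩)

lemma inSum_imLE {q : ℕ} {M : Subobject (X.obj (op q))} {s : (Fin d → ℕ) → Prop} {T S : C}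
    {x : T ⟶ X.obj (op q)} {y : S ⟶ X.obj (op q)} (h : ImLE x y) (hy : InSum hX hg M s y) :
    InSum hX hg M s x :=
  fun _ φ h1 h2 => h.comp_eq_zero (hy φ h1 h2)

/-- The leading coefficient subobject of `M` at a monomial. -/
noncomputable def leadSub {q : ℕ} (M : Subobject (X.obj (op q))) (α : Fin d → ℕ) (h : mdeg α = q) :
    Subobject (X.obj (op 0)) :=
  preim (monMap hX hg α h) (imageSubobject
    (exists_inSum_map hX hg M (fun β => toLex β < toLex α)).choose_spec.choose)

lemma imLE_leadSub_iff {q : ℕ} (M : Subobject (X.obj (op q))) (α : Fin d → ℕ) (h : mdeg α = q)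
    {T : C} (x : T ⟶ X.obj (op 0)) :
    ImLE x (leadSub hX hg M α h).arrow ↔
      InSum hX hg M (fun β => toLex β < toLex α) (x ≫ monMap hX hg α h) := by
  rw [(exists_inSum_map hX hg M (fun β => toLex β < toLex α)).choose_spec.choose_spec]
  set f := (exists_inSum_map hX hg M (fun β => toLex β < toLex α)).choose_spec.choose
  have e : ∀ {S : C} (y : S ⟶ X.obj (op q)), ImLE y (imageSubobject f).arrow ↔ ImLE y f := by
    intro S y
    rw [← imageSubobject_le_subobject_iff, imageSubobject_le_iff]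
  rw [← e]
  exact imLE_preim_iff _ _ x

lemma leadSub_mono {q : ℕ} {M M' : Subobject (X.obj (op q))} (hle : M ≤ M') (α : Fin d → ℕ)
    (h : mdeg α = q) : leadSub hX hg M α h ≤ leadSub hX hg M' α h := by
  rw [subobject_le_iff, imLE_leadSub_iff]
  intro Y φ h1 h2
  exact (imLE_leadSub_iff hX hg M α h _).1 (ImLE.refl _) φ
    (((subobject_le_iff _ _).1 hle).comp_eq_zero h1) h2

lemma leadSub_le_of_add {M : (q : ℕ) → Subobject (X.obj (op q))} (hM : IsGrSub J X M)
    {q q' : ℕ} (α γ : Fin d → ℕ) (h : mdeg α = q) (h' : mdeg (α + γ) = q') :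
    leadSub hX hg (M q) α h ≤ leadSub hX hg (M q') (α + γ) h' := by
  have hq : mdeg γ + q = q' := by rw [← h', mdeg_add, h, add_comm]
  have hqq : q ≤ q' := by omega
  rw [subobject_le_iff, imLE_leadSub_iff]
  intro Y φ h1 h2
  have hb : mon g γ ∈ J ^ mdeg γ := hg ▸ mon_mem g γ
  have hk : HomKilledBy (J ^ (q + 1)) (mon g γ • φ) := fun a ha => by
    rw [smul_smul]
    refine killedBy_hom_from (hX.1 q') φ _ ?_
    rw [show q' + 1 = q + 1 + mdeg γ by omega, pow_add]
    exact Ideal.mul_mem_mul ha hb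
  let ψ := quotDesc (hX.2 q q' hqq) (mon g γ • φ) hk
  have hψ : tr X hqq ≫ ψ = mon g γ • φ := quotDesc_fac _ _ _
  have hmon : ∀ β hβ hβ', monMap hX hg β hβ ≫ ψ = monMap hX hg (β + γ) hβ' ≫ φ := by
    intro β hβ hβ'
    have := isQuot_epi (hX.2 0 q' (Nat.zero_le q'))
    rw [← cancel_epi (tr X (Nat.zero_le q')), ← Category.assoc, ← Category.assoc _ _ φ,
      monMap_spec, ← tr_comp X (Nat.zero_le q) hqq, Category.assoc _ _ (monMap hX hg β hβ),
      monMap_spec, Linear.comp_smul, Category.comp_id, Linear.smul_comp, hψ, smul_smul,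
      Linear.smul_comp, Category.id_comp, mon_add]
  rw [Category.assoc, ← hmon α h h']
  refine (Category.assoc _ _ _).symm.trans
    ((imLE_leadSub_iff hX hg (M q) α h _).1 (ImLE.refl _) ψ ?_ fun β hβ hlt => ?_)
  · have := isQuot_epi (hX.2 q q' hqq)
    obtain ⟨T, π, hπ, z, hz⟩ := surjective_up_to_refinements_of_epi (tr X hqq) (M q).arrow
    have hmem := smul_mem_of_isGrSub hM hqq hq hb (x := z) (ImLE.of_eq π hz.symm)
    rw [← cancel_epi π, ← Category.assoc, hz, Category.assoc, hψ, comp_zero, Linear.comp_smul,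
      ← Linear.smul_comp]
    exact hmem.comp_eq_zero h1
  · rw [hmon β hβ (by rw [mdeg_add, hβ, ← hq, add_comm])]
    exact h2 _ _ (toLex_add_lt hlt γ)

lemma le_of_leadSub_eq {q : ℕ} {M M' : Subobject (X.obj (op q))} (hM' : M' ≤ Fsub X q q)
    (hle : M ≤ M') (heq : ∀ α h, leadSub hX hg M α h = leadSub hX hg M' α h) : M' ≤ M := by
  classical
  have key : ∀ s : Finset (Lex (Fin d → ℕ)), (∀ β ∈ s, mdeg (ofLex β) = q) →
      (∀ a ∈ s, ∀ β : Fin d → ℕ, mdeg β = q → toLex β < a → toLex β ∈ s) →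
      ∀ {T : C} (x : T ⟶ X.obj (op q)), ImLE x M'.arrow →
        InSum hX hg M (fun β => toLex β ∈ s) x → ImLE x M.arrow := by
    intro s
    induction s using Finset.induction_on_max with
    | empty =>
      intro _ _ T x _ hx
      exact hx _ (cokernel.condition _) (by simp)
    | insert a s hmax ih =>
      intro hdeg hdown T x hxM' hx
      have hlow : ∀ β : Fin d → ℕ, mdeg β = q → (toLex β < a ↔ toLex β ∈ s) := by
        refine fun β hβ => ⟨fun hlt => ?_, hmax _⟩
        exact (Finset.mem_insert.1 (hdown a (Finset.mem_insert_self a s) β hβ hlt)).resolve_left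
          hlt.ne
      obtain ⟨R, f, hf⟩ := exists_inSum_map hX hg M (fun β => toLex β ∈ s)
      have ha : mdeg (ofLex a) = q := hdeg a (Finset.mem_insert_self a s)
      have hfz := ((hf R f).2 (ImLE.refl f))
      have hle1 : ImLE (x ≫ cokernel.π f) (monMap hX hg (ofLex a) ha ≫ cokernel.π f) := by
        show (x ≫ _) ≫ _ = 0
        rw [Category.assoc]
        refine hx _ ?_ fun β hβ hs => ?_
        · have : ImLE M.arrow f := (hf _ _).1 fun Y φ h1 _ => h1
          rw [← Category.assoc, this, zero_comp]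
        · rcases Finset.mem_insert.1 hs with hs | hs
          · obtain rfl : β = ofLex a := congrArg ofLex hs
            exact (Category.assoc _ _ _).symm.trans (cokernel.condition _)
          · have : ImLE (monMap hX hg β hβ) f := (hf _ _).1 fun Y φ _ h2 => h2 β hβ hs
            rw [← Category.assoc, this, zero_comp]
      obtain ⟨P, π, hπ, y, hy⟩ := hle1.exists_refinement
      have hrest : InSum hX hg M (fun β => toLex β ∈ s) (π ≫ x - y ≫ monMap hX hg (ofLex a) ha) :=
        (hf _ _).2 (show _ ≫ _ = 0 by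
          rw [Preadditive.sub_comp, Category.assoc, Category.assoc, hy, sub_self])
      have hy' : ImLE y (leadSub hX hg M' (ofLex a) ha).arrow := by
        rw [imLE_leadSub_iff]
        intro Y φ h1 h2
        have e1 := hrest φ (((subobject_le_iff _ _).1 hle).comp_eq_zero h1)
          fun β hβ hs => h2 β hβ ((hlow β hβ).2 hs)
        rw [Preadditive.sub_comp, (hxM'.comp_left π).comp_eq_zero h1, zero_sub, neg_eq_zero] at e1
        exact e1
      rw [← heq, imLE_leadSub_iff] at hy'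
      refine ImLE.of_epi_left π (ih (fun β hβ => hdeg β (Finset.mem_insert_of_mem hβ))
        (fun b hb β hβ hlt => (hlow β hβ).1 (hlt.trans (hmax b hb))) _ (hxM'.comp_left π) ?_)
      intro Y φ h1 h2
      have e1 := hrest φ h1 h2
      rw [Preadditive.sub_comp, sub_eq_zero] at e1
      rw [e1]
      exact hy' φ h1 fun β hβ hlt => h2 β hβ ((hlow β hβ).1 hlt)
  rw [subobject_le_iff]
  refine key ((expsOfDeg d q).map toLex.toEmbedding) ?_ ?_ _ (ImLE.refl _) ?_
  · intro β hβ
    obtain ⟨γ, hγ, rfl⟩ := Finset.mem_map.1 hβ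
    exact mem_expsOfDeg.1 hγ
  · exact fun a _ β hβ _ => Finset.mem_map_of_mem _ (mem_expsOfDeg.2 hβ)
  · intro Y φ _ h2
    have hlei : LEI (J ^ q) M'.arrow := by
      refine LEI.of_imLE ((subobject_le_iff _ _).1 hM') ?_
      cases q with
      | zero => rw [pow_zero, Ideal.one_eq_top]; exact lei_top _
      | succ k => exact isQuot_lei (hX.2 k (k + 1) (Nat.le_succ k)) (Fsub_arrow_comp_tr _)
    rw [← hg, pow_span_eq, lei_span_iff] at hlei
    refine hlei.comp_eq_zero ((biproduct_desc_comp_eq_zero_iff _ _).2 fun α => ?_)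
    rw [← monMap_spec hX hg α.1 (mem_expsOfDeg.1 α.2), Category.assoc,
      h2 _ _ (Finset.mem_map_of_mem _ α.2), comp_zero]

end Monomials

/-- The strict graded object of an adic system with Noetherian components is Noetherian. -/
theorem grSub_chain_stationary [IsNoetherianRing A] (hX : IsAdicNoeth J X)
    (M : ℕ → (q : ℕ) → Subobject (X.obj (op q))) (hM : ∀ i : ℕ, IsGrSub J X (M i))
    (hmono : Monotone M) : ∃ i₀ : ℕ, ∀ i : ℕ, i₀ ≤ i → M i = M i₀ := by
  obtain ⟨d, g, hg⟩ := Submodule.fg_iff_exists_fin_generating_family.1 (IsNoetherian.noetherian J)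
  change Ideal.span (Set.range g) = J at hg
  let L : ℕ → (Fin d → ℕ) → Subobject (X.obj (op 0)) := fun i α =>
    leadSub hX.1 hg (M i (mdeg α)) α rfl
  have hLi : ∀ {i j : ℕ} (_ : i ≤ j) α, L i α ≤ L j α := fun h α =>
    leadSub_mono hX.1 hg (hmono h _) α rfl
  have hLα : ∀ i {α β : Fin d → ℕ}, α ≤ β → L i α ≤ L i β := fun i α β h => by
    obtain ⟨γ, rfl⟩ : ∃ γ, β = α + γ := ⟨β - α, funext fun k => by
      have hk : α k ≤ β k := h k
      simp only [Pi.add_apply, Pi.sub_apply]
      omega⟩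
    exact leadSub_le_of_add hX.1 hg (hM i) α γ rfl rfl
  by_contra hne
  push Not at hne
  have hstep : ∀ i, ∃ j α, i ≤ j ∧ L i α < L j α := by
    intro i
    obtain ⟨j, hij, hneq⟩ := hne i
    obtain ⟨q, hq⟩ := Function.ne_iff.1 hneq
    by_contra hall
    push Not at hall
    refine hq (le_antisymm (le_of_leadSub_eq hX.1 hg ((hM j).1 q) (hmono hij q) fun α h => ?_)
      (hmono hij q))
    subst h
    exact eq_of_le_of_not_lt (hLi hij α) (hall j α hij)
  choose nxt α hle hlt using hstep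
  let i : ℕ → ℕ := fun k => k.rec 0 fun _ m => nxt m
  have hi : Monotone i := monotone_nat_of_le_succ fun k => hle (i k)
  obtain ⟨φ, hφ⟩ := wellQuasiOrdered_iff_exists_monotone_subseq.1
    (wellQuasiOrdered_le (α := Fin d → ℕ)) (fun k => α (i k))
  have := hX.2 0
  refine not_strictMono_of_isNoetherianObject (fun k => L (i (φ k)) (α (i (φ k))))
    (strictMono_nat_of_lt_succ fun k => (hlt (i (φ k))).trans_le ?_)
  exact (hLi (hi (Nat.succ_le_of_lt (φ.strictMono (Nat.lt_succ_self k)))) _).trans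
    (hLα _ (hφ k (k + 1) (Nat.le_succ k)))

end Groth.Agent.Lib.AR
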