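import Groth.Agent.Lib.AR.Sys
import Mathlib.CategoryTheory.Preadditive.Injective.Basic

/-!
# Injective projective systems
-/

universe v u

open CategoryTheory CategoryTheory.Limits Opposite ARSys

namespace Groth.Agent.Lib.AR

attribute [local instance] Abelian.hasFiniteBiproducts

variable {C : Type u} [Category.{v} C] [Abelian C]

/-- The product of the first injectives. -/
noncomputable def injSys (I : ℕ → C) : PS C where
  obj m := ∏ᶜ fun i : Fin (m.unop + 1) => I i
  map {a b} f := Pi.lift fun i : Fin (b.unop + 1) =>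
    Pi.π (fun i : Fin (a.unop + 1) => I i) ⟨i, lt_of_lt_of_le i.2 (Nat.succ_le_succ (leOfHom f.unop))⟩
  map_id a := Pi.hom_ext _ _ fun i => by simp
  map_comp {a b c} f g := Pi.hom_ext _ _ fun i => by simp

/-- Projection of the product. -/
noncomputable def injπ (I : ℕ → C) (k m : ℕ) (h : k ≤ m) : (injSys I).obj (op m) ⟶ I k :=
  Pi.π (fun i : Fin (m + 1) => I i) ⟨k, Nat.lt_succ_of_le h⟩

@[reassoc]
lemma inj_tr (I : ℕ → C) {k n m : ℕ} (hkn : k ≤ n) (hnm : n ≤ m) :
    tr (injSys I) hnm ≫ injπ I k n hkn = injπ I k m (hkn.trans hnm) :=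
  Pi.lift_π _ _

/-- Lifting into `injSys`, one degree at a time. -/
noncomputable def injLift {I : ℕ → C} {m : ℕ} {T : C} (f : ∀ k, k ≤ m → (T ⟶ I k)) :
    T ⟶ (injSys I).obj (op m) :=
  Pi.lift fun i : Fin (m + 1) => f i (Nat.lt_succ_iff.1 i.2)

@[reassoc (attr := simp)]
lemma injLift_π {I : ℕ → C} {m : ℕ} {T : C} (f : ∀ k, k ≤ m → (T ⟶ I k)) {k : ℕ} (h : k ≤ m) :
    injLift f ≫ injπ I k m h = f k h :=
  Pi.lift_π _ _

lemma inj_hom_ext {I : ℕ → C} {m : ℕ} {T : C} {f g : T ⟶ (injSys I).obj (op m)}
    (h : ∀ k (hk : k ≤ m), f ≫ injπ I k m hk = g ≫ injπ I k m hk) : f = g :=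
  Pi.hom_ext _ _ fun i => h i (Nat.lt_succ_iff.1 i.2)

/-- Maps into `injSys`. -/
noncomputable def toInjSys {X : PS C} {I : ℕ → C} (f : ∀ k, X.obj (op k) ⟶ I k) : X ⟶ injSys I :=
  natMk (fun m => injLift fun k hk => tr X hk ≫ f k) fun n m h => inj_hom_ext fun k hk => by
    rw [Category.assoc, inj_tr, injLift_π, Category.assoc, injLift_π, tr_comp_assoc]

lemma toInjSys_π {X : PS C} {I : ℕ → C} (f : ∀ k, X.obj (op k) ⟶ I k) {k m : ℕ} (h : k ≤ m) :
    (toInjSys f).app (op m) ≫ injπ I k m h = tr X h ≫ f k :=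
  injLift_π (fun k hk => tr X hk ≫ f k) h

lemma injective_injSys (I : ℕ → C) [∀ k, Injective (I k)] : Injective (injSys I) where
  factors {X Y} g f _ := by
    have := fun k => mono_app f (op k)
    refine ⟨toInjSys fun k => Injective.factorThru (g.app (op k) ≫ injπ I k k le_rfl)
      (f.app (op k)), ?_⟩
    ext ⟨m⟩
    refine inj_hom_ext fun k hk => ?_
    rw [NatTrans.comp_app, Category.assoc, toInjSys_π, tr_app_assoc, Injective.comp_factorThru,
      ← tr_app_assoc, inj_tr]

lemma enoughInjectives_PS [EnoughInjectives C] : EnoughInjectives (ℕᵒᵖ ⥤ C) where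
  presentation X := ⟨{ J := injSys fun k => Injective.under (X.obj (op k))
                       injective := injective_injSys _
                       f := toInjSys fun k => Injective.ι (X.obj (op k))
                       mono := by
                        suffices ∀ k, Mono ((toInjSys fun k => Injective.ι (X.obj (op k))).app k) from
                          NatTrans.mono_of_mono_app _
                        rintro ⟨m⟩
                        have h := toInjSys_π (fun k => Injective.ι (X.obj (op k))) (le_refl m)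
                        rw [tr_self, Category.id_comp] at h
                        exact mono_of_mono_fac h }⟩

/-- `M` in degree zero, and zero above. -/
noncomputable def degZero (M : C) : PS C where
  obj m := ∏ᶜ fun _ : PLift (m.unop = 0) => M
  map {a b} f := Pi.lift fun h =>
    if ha : a.unop = 0 then Pi.π (fun _ : PLift (a.unop = 0) => M) ⟨ha⟩ else 0
  map_id a := Pi.hom_ext _ _ fun h => by simp [h.down]
  map_comp {a b c} f g := Pi.hom_ext _ _ fun h => by
    have hab : b.unop ≤ a.unop := leOfHom f.unop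
    by_cases ha : a.unop = 0
    · have hb : b.unop = 0 := by omega
      simp [ha, hb]
    · by_cases hb : b.unop = 0 <;> simp [ha, hb]

/-- The projection. -/
noncomputable def degπ (M : C) {m : ℕ} (h : m = 0) : (degZero M).obj (op m) ⟶ M :=
  Pi.π (fun _ : PLift (m = 0) => M) ⟨h⟩

/-- Lifting. -/
noncomputable def degLift {M T : C} {m : ℕ} (f : m = 0 → (T ⟶ M)) : T ⟶ (degZero M).obj (op m) :=
  Pi.lift fun h => f h.down

@[reassoc (attr := simp)]
lemma degLift_π {M T : C} {m : ℕ} (f : m = 0 → (T ⟶ M)) (h : m = 0) :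
    degLift f ≫ degπ M h = f h :=
  Pi.lift_π _ _

lemma deg_hom_ext {M T : C} {m : ℕ} {f g : T ⟶ (degZero M).obj (op m)}
    (h : ∀ hm : m = 0, f ≫ degπ M hm = g ≫ degπ M hm) : f = g :=
  Pi.hom_ext _ _ fun p => h p.down

lemma deg_tr (M : C) {n m : ℕ} (hnm : n ≤ m) (hn : n = 0) :
    tr (degZero M) hnm ≫ degπ M hn = if hm : m = 0 then degπ M hm else 0 :=
  Pi.lift_π _ _

/-- Maps out of `degZero`. -/
noncomputable def fromDegZero {M : C} {X : PS C} (g : M ⟶ X.obj (op 0)) : degZero M ⟶ X :=
  natMk (fun m => if h : m = 0 then degπ M h ≫ g ≫ tr X h.le else 0)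
    fun n m hnm => by
      by_cases hm : m = 0
      · have hn : n = 0 := by omega
        subst hm hn
        simp
      · rw [dif_neg hm, zero_comp]
        by_cases hn : n = 0
        · rw [dif_pos hn, ← Category.assoc, deg_tr, dif_neg hm, zero_comp]
        · rw [dif_neg hn, comp_zero]

/-- Functoriality of `degZero`. -/
noncomputable def degZeroMap {M N : C} (f : M ⟶ N) : degZero M ⟶ degZero N :=
  natMk (fun m => degLift fun h => degπ M h ≫ f) fun n m h => deg_hom_ext fun hn => by
    rw [Category.assoc, deg_tr, Category.assoc, degLift_π, ← Category.assoc (tr _ h), deg_tr]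
    by_cases hm : m = 0 <;> simp [hm]

@[reassoc]
lemma degZeroMap_π {M N : C} (f : M ⟶ N) {m : ℕ} (h : m = 0) :
    (degZeroMap f).app (op m) ≫ degπ N h = degπ M h ≫ f :=
  degLift_π (fun h => degπ M h ≫ f) h

lemma fromDegZero_app_zero {M : C} {X : PS C} (g : M ⟶ X.obj (op 0)) :
    (fromDegZero g).app (op 0) = degπ M rfl ≫ g := by
  show (if h : (0 : ℕ) = 0 then degπ M h ≫ g ≫ tr X h.le else 0) = _
  rw [dif_pos rfl, tr_self, Category.comp_id]

instance {M N : C} (f : M ⟶ N) [Mono f] : Mono (degZeroMap f) := by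
  have : ∀ k, Mono ((degZeroMap f).app k) := fun ⟨m⟩ => ⟨fun a b h => deg_hom_ext fun hm => by
    have h' := h =≫ degπ N hm
    rw [Category.assoc, Category.assoc, degZeroMap_π, ← Category.assoc, ← Category.assoc,
      cancel_mono] at h'
    exact h'⟩
  exact NatTrans.mono_of_mono_app _

lemma injective_obj_zero (E : PS C) [Injective E] : Injective (E.obj (op 0)) where
  factors {M N} g f _ := by
    obtain ⟨h, hh⟩ := Injective.factors (fromDegZero g) (degZeroMap f)
    refine ⟨degLift (fun _ => 𝟙 N) ≫ h.app (op 0), ?_⟩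
    have h0 := degLift (fun _ : (0 : ℕ) = 0 => 𝟙 M) ≫=
      congrArg (fun t => NatTrans.app t (op 0)) hh
    simp only [NatTrans.comp_app] at h0
    rw [← Category.assoc] at h0
    rw [← Category.assoc]
    refine Eq.trans (congrArg (· ≫ h.app (op 0)) (deg_hom_ext fun hm => ?_)) (h0.trans ?_)
    · rw [Category.assoc, degLift_π, Category.assoc, degZeroMap_π, degLift_π_assoc,
        Category.comp_id, Category.id_comp]
    · rw [fromDegZero_app_zero, degLift_π_assoc, Category.id_comp]

lemma enoughInjectives_of_PS [EnoughInjectives (ℕᵒᵖ ⥤ C)] : EnoughInjectives C where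
  presentation M := by
    let E : PS C := Injective.under ((Functor.const ℕᵒᵖ).obj M)
    have := mono_app (Injective.ι ((Functor.const ℕᵒᵖ).obj M)) (op 0)
    exact ⟨{ J := E.obj (op 0)
             injective := injective_obj_zero E
             f := (Injective.ι ((Functor.const ℕᵒᵖ).obj M)).app (op 0) }⟩

/-- Isomorphisms up to translation induce isomorphisms on limits. -/
lemma isIso_limMap [HasLimitsOfShape ℕᵒᵖ C] {X Y : PS C} (u : X ⟶ Y) (hu : IsARIso u) :
    IsIso (limMap u) := by
  obtain ⟨r, ⟨i⟩⟩ := exists_inv_of_isARIso hu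
  refine ⟨limit.lift X ⟨limit Y,
    natMk (X := (Functor.const ℕᵒᵖ).obj (limit Y)) (fun n => limit.π Y (op (n + r)) ≫ i.v n)
      fun n m h => ?_⟩, ?_, ?_⟩
  · rw [Category.assoc, i.nat n m h, ← Category.assoc, limit.w]
    exact (Category.id_comp _).symm
  · refine limit.hom_ext fun ⟨n⟩ => ?_
    rw [Category.assoc, limit.lift_π, Category.id_comp]
    show limMap u ≫ limit.π Y (op (n + r)) ≫ i.v n = limit.π X (op n)
    rw [← Category.assoc, limMap_π, Category.assoc, i.uv]
    exact limit.w X _
  · refine limit.hom_ext fun ⟨n⟩ => ?_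
    rw [Category.assoc, limMap_π, limit.lift_π_assoc, Category.id_comp]
    show (limit.π Y (op (n + r)) ≫ i.v n) ≫ u.app (op n) = limit.π Y (op n)
    rw [Category.assoc, i.vu]
    exact limit.w Y _

end Groth.Agent.Lib.AR
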