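import Groth.Agent.Lib.AR.Sys
import Mathlib.CategoryTheory.Linear.Basic
import Mathlib.CategoryTheory.Linear.FunctorCategory
import Mathlib.RingTheory.Finiteness.Ideal

/-!
# Quotients modulo an ideal in a linear abelian category
-/

universe w v u

open CategoryTheory CategoryTheory.Limits Opposite ARSys

namespace Groth.Agent.Lib.AR

attribute [local instance] Abelian.hasFiniteBiproducts

variable {C : Type u} [Category.{v} C] [Abelian C] {A : Type w} [CommRing A] [Linear A C]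

section Killed

variable {I L : Ideal A} {X Y Z Q : C}

lemma homKilledBy_comp_right {φ : X ⟶ Y} (h : HomKilledBy I φ) (ψ : Y ⟶ Z) :
    HomKilledBy I (φ ≫ ψ) := fun a ha => by rw [← Linear.smul_comp, h a ha, zero_comp]

lemma homKilledBy_comp_left {φ : X ⟶ Y} (h : HomKilledBy I φ) (ψ : Z ⟶ X) :
    HomKilledBy I (ψ ≫ φ) := fun a ha => by rw [← Linear.comp_smul, h a ha, comp_zero]

lemma homKilledBy_anti {φ : X ⟶ Y} (h : HomKilledBy L φ) (hIL : I ≤ L) : HomKilledBy I φ :=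
  fun a ha => h a (hIL ha)

lemma killedBy_smul_eq_zero (h : KilledBy I Y) {a : A} (ha : a ∈ I) (φ : X ⟶ Y) : a • φ = 0 := by
  rw [← Category.comp_id φ, ← Linear.comp_smul, h a ha, comp_zero]

lemma killedBy_hom_to (h : KilledBy I Y) (φ : X ⟶ Y) : HomKilledBy I φ :=
  fun _ ha => killedBy_smul_eq_zero h ha φ

lemma killedBy_hom_from (h : KilledBy I X) (φ : X ⟶ Y) : HomKilledBy I φ := fun a ha => by
  rw [← Category.id_comp φ, ← Linear.smul_comp, h a ha, zero_comp]

lemma killedBy_anti (h : KilledBy L X) (hIL : I ≤ L) : KilledBy I X := fun a ha => h a (hIL ha)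

lemma killedBy_of_mono (m : X ⟶ Y) [Mono m] (h : KilledBy I Y) : KilledBy I X := fun a ha => by
  rw [← cancel_mono m, Linear.smul_comp, Category.id_comp, zero_comp]
  exact killedBy_smul_eq_zero h ha m

lemma killedBy_of_epi (e : X ⟶ Y) [Epi e] (h : KilledBy I X) : KilledBy I Y := fun a ha => by
  rw [← cancel_epi e, Linear.comp_smul, Category.comp_id, comp_zero]
  exact killedBy_hom_from h e a ha

lemma killedBy_biprod (h : KilledBy I X) (h' : KilledBy I Y) : KilledBy I (X ⊞ Y) := fun a ha => by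
  apply biprod.hom_ext
  · rw [zero_comp, Linear.smul_comp, Category.id_comp]
    exact killedBy_smul_eq_zero h ha _
  · rw [zero_comp, Linear.smul_comp, Category.id_comp]
    exact killedBy_smul_eq_zero h' ha _

lemma killedBy_top {X : C} (h : KilledBy (⊤ : Ideal A) X) : IsZero X := by
  rw [IsZero.iff_id_eq_zero]
  simpa using h 1 trivial

/-- The image of `k` lies in `I X`. -/
def LEI (I : Ideal A) {T X : C} (k : T ⟶ X) : Prop :=
  ∀ (Y : C) (φ : X ⟶ Y), HomKilledBy I φ → k ≫ φ = 0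

lemma LEI.comp_eq_zero {T : C} {k : T ⟶ X} (h : LEI I k) {φ : X ⟶ Y} (hφ : HomKilledBy I φ) :
    k ≫ φ = 0 := h Y φ hφ

lemma LEI.comp_left {T S : C} {k : T ⟶ X} (h : LEI I k) (z : S ⟶ T) : LEI I (z ≫ k) :=
  fun Y φ hφ => by rw [Category.assoc, h Y φ hφ, comp_zero]

lemma LEI.comp_right {T : C} {k : T ⟶ X} (h : LEI I k) (f : X ⟶ Z) : LEI I (k ≫ f) :=
  fun Y φ hφ => by rw [Category.assoc, h Y _ (homKilledBy_comp_left hφ f)]

lemma LEI.mono_ideal {T : C} {k : T ⟶ X} (h : LEI I k) (hIL : I ≤ L) : LEI L k :=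
  fun Y φ hφ => h Y φ fun a ha => hφ a (hIL ha)

lemma LEI.of_imLE {T S : C} {k : T ⟶ X} {g : S ⟶ X} (h : ImLE k g) (hg : LEI I g) : LEI I k :=
  fun Y φ hφ => h.comp_eq_zero (hg Y φ hφ)

lemma LEI.smul_eq_zero {T : C} {k : T ⟶ X} (h : LEI I k) {a : A}
    (ha : ∀ b ∈ I, (b * a) • (𝟙 X) = 0) : a • k = 0 := by
  have := h X (a • 𝟙 X) fun b hb => by rw [smul_smul]; exact ha b hb
  rwa [Linear.comp_smul, Category.comp_id] at this

lemma lei_smul_id {a : A} (ha : a ∈ I) : LEI I (a • 𝟙 X) := fun Y φ hφ => by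
  rw [Linear.smul_comp, Category.id_comp]
  exact hφ a ha

lemma lei_top {T : C} (k : T ⟶ X) : LEI (⊤ : Ideal A) k := fun Y φ hφ => by
  have : (1 : A) • φ = 0 := hφ 1 trivial
  rw [one_smul] at this
  rw [this, comp_zero]

lemma isQuot_killed {p : X ⟶ Q} (h : IsQuot I p) : KilledBy I Q := h.1

lemma isQuot_homKilledBy {p : X ⟶ Q} (h : IsQuot I p) : HomKilledBy I p := killedBy_hom_to h.1 p

/-- Descent along a quotient map. -/
noncomputable def quotDesc {p : X ⟶ Q} (h : IsQuot I p) (φ : X ⟶ Y) (hφ : HomKilledBy I φ) :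
    Q ⟶ Y := (h.2 Y φ hφ).choose

@[reassoc (attr := simp)]
lemma quotDesc_fac {p : X ⟶ Q} (h : IsQuot I p) (φ : X ⟶ Y) (hφ : HomKilledBy I φ) :
    p ≫ quotDesc h φ hφ = φ := (h.2 Y φ hφ).choose_spec.1

lemma isQuot_epi {p : X ⟶ Q} (h : IsQuot I p) : Epi p := by
  refine ⟨fun {Z} f g hfg => ?_⟩
  exact (h.2 Z (p ≫ f) (homKilledBy_comp_right (isQuot_homKilledBy h) f)).unique rfl hfg.symm

lemma isQuot_of {p : X ⟶ Q} [Epi p] (hQ : KilledBy I Q) (hk : LEI I (kernel.ι p)) : IsQuot I p :=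
  ⟨hQ, fun Y φ hφ =>
    ⟨Abelian.epiDesc p φ (hk.comp_eq_zero hφ), Abelian.comp_epiDesc p φ _,
      fun ψ hψ => by rw [← cancel_epi p, hψ, Abelian.comp_epiDesc]⟩⟩

lemma isQuot_lei {p : X ⟶ Q} (h : IsQuot I p) {T : C} {k : T ⟶ X} (hk : k ≫ p = 0) : LEI I k :=
  fun Y φ hφ => by rw [← quotDesc_fac h φ hφ, ← Category.assoc, hk, zero_comp]

lemma isQuot_comp_eq_zero_iff {p : X ⟶ Q} (h : IsQuot I p) {T : C} (k : T ⟶ X) :
    k ≫ p = 0 ↔ LEI I k :=
  ⟨isQuot_lei h, fun hk => hk.comp_eq_zero (isQuot_homKilledBy h)⟩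

lemma isQuot_comp {p : X ⟶ Q} {q : Q ⟶ Z} (hp : IsQuot I p) (hq : IsQuot L q) (hIL : I ≤ L) :
    IsQuot L (p ≫ q) := by
  refine ⟨hq.1, fun Y φ hφ => ?_⟩
  have h1 : HomKilledBy L (quotDesc hp φ (homKilledBy_anti hφ hIL)) := fun a ha => by
    have := isQuot_epi hp
    rw [← cancel_epi p, Linear.comp_smul, quotDesc_fac, comp_zero]
    exact hφ a ha
  refine ⟨quotDesc hq _ h1, by simp, fun ψ hψ => ?_⟩
  have := isQuot_epi hp
  have := isQuot_epi hq
  rw [← cancel_epi q, quotDesc_fac, ← cancel_epi p, quotDesc_fac, ← Category.assoc, hψ]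

lemma isQuot_of_isIso_comp {X' : C} (e : X' ⟶ X) [IsIso e] {p : X ⟶ Q} (h : IsQuot I p) :
    IsQuot I (e ≫ p) := by
  refine ⟨h.1, fun Y φ hφ => ⟨quotDesc h (inv e ≫ φ) (homKilledBy_comp_left hφ _), by simp,
    fun ψ hψ => ?_⟩⟩
  have := isQuot_epi h
  rw [← cancel_epi p, quotDesc_fac, IsIso.eq_inv_comp, ← Category.assoc]
  exact hψ

end Killed

section Generators

variable {X : C}

lemma lei_span_iff {ι : Type} [Finite ι] (g : ι → A) {T : C} (k : T ⟶ X) :
    LEI (Ideal.span (Set.range g)) k ↔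
      ImLE k (biproduct.desc fun i => g i • 𝟙 X) := by
  constructor
  · intro h
    refine h.comp_eq_zero fun a ha => ?_
    induction ha using Submodule.span_induction with
    | mem x hx =>
      obtain ⟨i, rfl⟩ := hx
      have := (biproduct_desc_comp_eq_zero_iff (fun i => g i • 𝟙 X) _).1
        (cokernel.condition (biproduct.desc fun i => g i • 𝟙 X)) i
      rwa [Linear.smul_comp, Category.id_comp] at this
    | zero => exact zero_smul A _
    | add x y _ _ hx hy => rw [add_smul, hx, hy, add_zero]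
    | smul r x _ hx => rw [smul_eq_mul, mul_smul, hx, smul_zero]
  · intro h Y φ hφ
    refine h.comp_eq_zero ((biproduct_desc_comp_eq_zero_iff _ _).2 fun i => ?_)
    rw [Linear.smul_comp, Category.id_comp]
    exact hφ _ (Ideal.subset_span ⟨i, rfl⟩)

lemma lei_biproduct_desc {ι : Type} [Finite ι] (g : ι → A) :
    LEI (Ideal.span (Set.range g)) (biproduct.desc fun i => g i • 𝟙 X) :=
  (lei_span_iff g _).2 (ImLE.refl _)

lemma exists_isQuot_of_fg {I : Ideal A} (hI : I.FG) (X : C) :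
    ∃ (Q : C) (p : X ⟶ Q), IsQuot I p := by
  obtain ⟨k, g, hg⟩ := Submodule.fg_iff_exists_fin_generating_family.1 hI
  change Ideal.span (Set.range g) = I at hg
  subst hg
  let p := cokernel.π (biproduct.desc fun i => g i • 𝟙 X)
  have hp : HomKilledBy (Ideal.span (Set.range g)) p := fun a ha => by
    have h := (lei_span_iff g (a • 𝟙 X)).1 (lei_smul_id ha)
    have h' : (a • 𝟙 X) ≫ p = 0 := h
    rwa [Linear.smul_comp, Category.id_comp] at h'
  refine ⟨_, p, isQuot_of (fun a ha => ?_) fun Y φ hφ => ?_⟩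
  · rw [← cancel_epi p, Linear.comp_smul, Category.comp_id, comp_zero]
    exact hp a ha
  · rw [← cokernel.π_desc _ φ ((lei_biproduct_desc g).comp_eq_zero hφ), ← Category.assoc,
      kernel.condition, zero_comp]

lemma exists_isQuot_of_hasCoproducts (I : Ideal A) [HasCoproducts.{w} C] (X : C) :
    ∃ (Q : C) (p : X ⟶ Q), IsQuot I p := by
  let s : (∐ fun _ : I => X) ⟶ X := Sigma.desc fun a : I => (a : A) • 𝟙 X
  have hs : ∀ a ∈ I, a • cokernel.π s = 0 := fun a ha => by
    have h := (Sigma.ι (fun _ : I => X) ⟨a, ha⟩) ≫= cokernel.condition s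
    rwa [← Category.assoc, Sigma.ι_desc, Linear.smul_comp, Category.id_comp, comp_zero] at h
  refine ⟨_, cokernel.π s, isQuot_of (fun a ha => ?_) fun Y φ hφ => ?_⟩
  · rw [← cancel_epi (cokernel.π s), Linear.comp_smul, Category.comp_id, comp_zero]
    exact hs a ha
  · have h : s ≫ φ = 0 := Sigma.hom_ext _ _ fun a => by
      rw [Sigma.ι_desc_assoc, Linear.smul_comp, Category.id_comp, comp_zero]
      exact hφ a.1 a.2
    rw [← cokernel.π_desc _ φ h, ← Category.assoc, kernel.condition, zero_comp]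

lemma exists_isQuot {J : Ideal A} (hJ : J.FG ∨ HasCoproducts.{w} C) (n : ℕ) (X : C) :
    ∃ (Q : C) (p : X ⟶ Q), IsQuot (J ^ n) p := by
  rcases hJ with hJ | hJ
  · exact exists_isQuot_of_fg (Ideal.FG.pow hJ) X
  · exact exists_isQuot_of_hasCoproducts (J ^ n) X

end Generators

section Systems

variable {J : Ideal A} {X Y : PS C}

lemma isStrict_of_isAdic (hX : IsAdic J X) : IsStrict X := fun n m h => isQuot_epi (hX.2 n m h)

lemma termKilled_of_mono (hY : TermKilled J Y) (f : X ⟶ Y) [Mono f] : TermKilled J X := fun n => by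
  have := mono_app f (op n)
  exact killedBy_of_mono (f.app (op n)) (hY n)

lemma termKilled_of_epi (hX : TermKilled J X) (f : X ⟶ Y) [Epi f] : TermKilled J Y := fun n => by
  have := epi_app f (op n)
  exact killedBy_of_epi (f.app (op n)) (hX n)

lemma isAdic_smul_eq_zero (hX : IsAdic J X) {T : C} {n j p : ℕ} (hjn : j ≤ n) (hp : n ≤ p + j)
    {k : T ⟶ X.obj (op n)} (hk : k ≫ tr X hjn = 0) {a : A} (ha : a ∈ J ^ p) : a • k = 0 :=
  (isQuot_lei (hX.2 j n hjn) hk).smul_eq_zero fun b hb =>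
    hX.1 n _ (Ideal.pow_le_pow_right (show n + 1 ≤ j + 1 + p by omega)
      (by rw [pow_add]; exact Ideal.mul_mem_mul hb ha))

lemma Fsub_arrow_comp_tr {k n : ℕ} (h : k ≤ n) :
    (Fsub X (k + 1) n).arrow ≫ tr X h = 0 := by
  rw [Fsub, dif_pos h]
  exact kernelSubobject_arrow_comp _

lemma imLE_Fsub_iff {k n : ℕ} (h : k ≤ n) {T : C} (x : T ⟶ X.obj (op n)) :
    ImLE x (Fsub X (k + 1) n).arrow ↔ x ≫ tr X h = 0 := by
  refine ⟨fun hx => hx.comp_eq_zero (Fsub_arrow_comp_tr h), fun hx => ?_⟩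
  rw [← factors_iff, Fsub, dif_pos h]
  exact kernelSubobject_factors _ x hx

lemma imLE_Fsub_zero {n : ℕ} {T : C} (x : T ⟶ X.obj (op n)) : ImLE x (Fsub X 0 n).arrow := by
  rw [← factors_iff]
  exact Subobject.top_factors x

lemma isAdapted_of_isAdic (hX : IsAdic J X) : IsAdapted J X := fun n p hp a ha => by
  rw [Linear.comp_smul, Category.comp_id]
  rcases Nat.eq_zero_or_pos (n + 1 - p) with h0 | h0
  · have : p = n + 1 := by omega
    subst this
    exact killedBy_smul_eq_zero (hX.1 n) ha _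
  · obtain ⟨k, hk⟩ := Nat.exists_eq_add_of_le' h0
    rw [hk]
    exact isAdic_smul_eq_zero hX (show k ≤ n by omega) (by omega) (Fsub_arrow_comp_tr _) ha

lemma termKilled_of_isAdapted (hX : IsAdapted J X) : TermKilled J X := fun n a ha => by
  have h := hX n (n + 1) le_rfl a ha
  rw [Nat.sub_self] at h
  have : Epi (Fsub X 0 n).arrow := inferInstanceAs (Epi (⊤ : Subobject (X.obj (op n))).arrow)
  rw [← cancel_epi (Fsub X 0 n).arrow, h, comp_zero]

lemma isAdapted_smul_eq_zero (hX : IsAdapted J X) {T : C} {n j p : ℕ} (hjn : j ≤ n)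
    (hp : n ≤ p + j) {k : T ⟶ X.obj (op n)} (hk : k ≫ tr X hjn = 0) {a : A} (ha : a ∈ J ^ p) :
    a • k = 0 := by
  by_cases hpn : n + 1 ≤ p
  · exact killedBy_smul_eq_zero (termKilled_of_isAdapted hX n) (Ideal.pow_le_pow_right hpn ha) k
  · have hle : ImLE k (Fsub X (n - p + 1) n).arrow := by
      rw [imLE_Fsub_iff (show n - p ≤ n by omega), ← tr_comp X (show n - p ≤ j by omega) hjn,
        ← Category.assoc, hk, zero_comp]
    have h := hX n p (by omega) a ha
    rw [show n + 1 - p = n - p + 1 by omega] at h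
    rw [← Category.comp_id k, ← Linear.comp_smul, ← hle.lift_comp, Category.assoc, h, comp_zero]

end Systems

end Groth.Agent.Lib.AR
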