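import Groth.Agent.Lib.AR.Graded

/-!
# Strict subsystems and finite type graded objects
-/

universe w v u

open CategoryTheory CategoryTheory.Limits Opposite ARSys

namespace Groth.Agent.Lib.AR

attribute [local instance] Abelian.hasFiniteBiproducts

lemma imLE_inf_iff {C : Type u} [Category.{v} C] [Abelian C] {B T : C} {S S' : Subobject B}
    (x : T ⟶ B) : ImLE x (S ⊓ S').arrow ↔ ImLE x S.arrow ∧ ImLE x S'.arrow := by
  rw [← factors_iff, Subobject.inf_factors, factors_iff, factors_iff]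

variable {C : Type u} [Category.{v} C] [Abelian C] {A : Type w} [CommRing A] [Linear A C]
  {J : Ideal A} {X : PS C}

lemma imLE_smul {P Q Y : C} {k : P ⟶ Y} {g : Q ⟶ Y} (h : ImLE k g) (a : A) :
    ImLE (a • k) g := by
  rw [ImLE, Linear.smul_comp, h, smul_zero]

lemma smul_mem_Fsub (hA : IsAdapted J X) {p q : ℕ} {a : A} (ha : a ∈ J ^ p) {T : C}
    (x : T ⟶ X.obj (op (p + q))) (hx : ImLE (x ≫ tr X (Nat.le_add_left q p)) (Fsub X q q).arrow) :
    ImLE (a • x) (Fsub X (p + q) (p + q)).arrow := by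
  rcases Nat.eq_zero_or_pos (p + q) with h0 | h0
  · have : ∀ {s : ℕ}, s = 0 → ImLE (a • x) (Fsub X s (p + q)).arrow := fun hs => by
      subst hs
      exact imLE_Fsub_zero _
    exact this h0
  obtain ⟨m, hm⟩ := Nat.exists_eq_add_of_le' h0
  have key : ImLE (a • x) (Fsub X (m + 1) (p + q)).arrow := by
    rw [imLE_Fsub_iff (show m ≤ p + q by omega), Linear.smul_comp]
    cases q with
    | zero =>
      exact killedBy_smul_eq_zero (termKilled_of_isAdapted hA m)
        (Ideal.pow_le_pow_right (by omega) ha) _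
    | succ j =>
      refine isAdapted_smul_eq_zero hA (show j ≤ m by omega) (by omega) ?_ ha
      have h1 := (imLE_Fsub_self_iff _).1 hx
      rw [Category.assoc, tr_comp] at h1
      rw [Category.assoc, tr_comp]
      exact h1
  rwa [← hm] at key

/-- A strict adapted system with graded object of finite type is adic up to translation. -/
theorem isARAdic_of_grsFiniteType (hJ : J.FG ∨ HasCoproducts.{w} C) (hX : IsStrict X)
    (hA : IsAdapted J X) (hft : GrsFiniteType J X) : IsARAdic J X := by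
  choose Q π hπ using fun i q => exists_isQuot hJ (q - i) (X.obj (op q))
  let M : ℕ → (q : ℕ) → Subobject (X.obj (op q)) := fun i q =>
    Fsub X q q ⊓ kernelSubobject (π i q)
  have hM : ∀ {i q : ℕ} {T : C} (x : T ⟶ X.obj (op q)),
      ImLE x (M i q).arrow ↔ ImLE x (Fsub X q q).arrow ∧ LEI (J ^ (q - i)) x := by
    intro i q T x
    rw [imLE_inf_iff]
    refine and_congr_right fun _ => ⟨fun h => isQuot_lei (hπ i q)
      (h.comp_eq_zero (kernelSubobject_arrow_comp _)), fun h => ?_⟩
    exact factors_iff.1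
      (kernelSubobject_factors _ x (h.comp_eq_zero (isQuot_homKilledBy (hπ i q))))
  have hgr : ∀ i, IsGrSub J X (M i) := fun i => by
    refine isGrSub_iff.2 ⟨fun q => inf_le_left, fun p q a ha T x hx => ?_⟩
    obtain ⟨h1, h2⟩ := (hM _).1 hx
    refine (hM _).2 ⟨smul_mem_Fsub hA ha x h1, fun Y φ hφ => ?_⟩
    have hqn : q ≤ p + q := Nat.le_add_left q p
    have := hX q (p + q) hqn
    have h0 : kernel.ι (tr X hqn) ≫ (a • φ) = 0 := by
      rw [Linear.comp_smul, ← Linear.smul_comp,
        isAdapted_smul_eq_zero hA hqn le_rfl (kernel.condition _) ha, zero_comp]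
    let ψ := Abelian.epiDesc (tr X hqn) (a • φ) h0
    have hψ : tr X hqn ≫ ψ = a • φ := Abelian.comp_epiDesc _ _ _
    have hk : HomKilledBy (J ^ (q - i)) ψ := fun b hb => by
      rw [← cancel_epi (tr X hqn), Linear.comp_smul, hψ, comp_zero, smul_smul]
      refine hφ _ (Ideal.pow_le_pow_right (show p + q - i ≤ (q - i) + p by omega) ?_)
      rw [pow_add]
      exact Ideal.mul_mem_mul hb ha
    have h3 := h2.comp_eq_zero hk
    rw [Category.assoc, hψ] at h3
    rwa [Linear.smul_comp, ← Linear.comp_smul]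
  have hmono : Monotone M := fun i j hij q => by
    rw [subobject_le_iff, hM]
    obtain ⟨h1, h2⟩ := (hM _).1 (ImLE.refl (M i q).arrow)
    exact ⟨h1, h2.mono_ideal (Ideal.pow_le_pow_right (by omega))⟩
  obtain ⟨r, hr⟩ := hft M hgr hmono fun q =>
    ⟨by rintro _ ⟨i, rfl⟩; exact inf_le_left, fun B hB => by
      refine le_trans ?_ (hB ⟨q, rfl⟩)
      rw [subobject_le_iff, hM]
      refine ⟨ImLE.refl _, ?_⟩
      rw [Nat.sub_self, pow_zero, Ideal.one_eq_top]
      exact lei_top _⟩
  refine isARAdic_of_lei_Fker hJ hX (termKilled_of_isAdapted hA) (r := r) fun n => ?_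
  have h1 : Fker X n ≤ Fsub X n n := by
    cases n with
    | zero => exact le_top
    | succ k =>
      rw [subobject_le_iff, imLE_Fsub_self_iff]
      exact kernelSubobject_arrow_comp _
  have h2 := (hM (i := r) (Fsub X n n).arrow).1
    ((subobject_le_iff _ _).1 (hr n).ge)
  exact LEI.of_imLE ((subobject_le_iff _ _).1 h1) h2.2

section Chain

/-- The graded subobject attached to a subsystem. -/
noncomputable def grOf (Z : Subobject X) (q : ℕ) : Subobject (X.obj (op q)) :=
  imageSubobject (Z.arrow.app (op q)) ⊓ Fsub X q q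

lemma imLE_grOf_iff {Z : Subobject X} {q : ℕ} {T : C} (x : T ⟶ X.obj (op q)) :
    ImLE x (grOf Z q).arrow ↔ ImLE x (Z.arrow.app (op q)) ∧ ImLE x (Fsub X q q).arrow := by
  rw [grOf, imLE_inf_iff, ← imageSubobject_le_subobject_iff (S := imageSubobject _),
    imageSubobject_le_iff]

lemma isGrSub_grOf (hA : IsAdapted J X) {Z : Subobject X} (hZ : IsStrict (Z : PS C)) :
    IsGrSub J X (grOf Z) := by
  refine isGrSub_iff.2 ⟨fun q => inf_le_right, fun p q a ha T x hx => ?_⟩
  obtain ⟨h1, h2⟩ := (imLE_grOf_iff _).1 hx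
  refine (imLE_grOf_iff _).2 ⟨?_, smul_mem_Fsub hA ha x h2⟩
  obtain ⟨T₁, π₁, hπ₁, z, hz⟩ := h1.exists_refinement
  have := hZ q (p + q) (Nat.le_add_left q p)
  obtain ⟨T₂, π₂, hπ₂, z', hz'⟩ :=
    surjective_up_to_refinements_of_epi (tr (Z : PS C) (Nat.le_add_left q p)) z
  have h0 : a • (π₂ ≫ π₁ ≫ x - z' ≫ Z.arrow.app (op (p + q))) = 0 := by
    refine isAdapted_smul_eq_zero hA (Nat.le_add_left q p) le_rfl ?_ ha
    rw [Preadditive.sub_comp, Category.assoc, Category.assoc, Category.assoc, hz, tr_app,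
      reassoc_of% hz', sub_self]
  refine ImLE.of_refinement (π₂ ≫ π₁) (a • z') ?_
  rw [smul_sub, sub_eq_zero] at h0
  rw [Category.assoc, Linear.comp_smul, Linear.comp_smul, h0, Linear.smul_comp]

lemma le_of_grOf_le {Z Z' : Subobject X} (hle : Z ≤ Z') (hZ : IsStrict (Z : PS C))
    (h : ∀ q, grOf Z' q ≤ grOf Z q) : Z' ≤ Z := by
  refine (subobject_le_iff _ _).2 (imLE_of_app fun ⟨q⟩ => ?_)
  induction q with
  | zero =>
    refine ((imLE_grOf_iff _).1 (((imLE_grOf_iff _).2 ⟨ImLE.refl _, imLE_Fsub_zero _⟩).trans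
      ((subobject_le_iff _ _).1 (h 0)))).1
  | succ k ih =>
    have hy : ImLE (Z'.arrow.app (op (k + 1)) ≫ tr X (Nat.le_succ k)) (Z.arrow.app (op k)) := by
      rw [tr_app]
      exact ih.comp_left _
    obtain ⟨T₁, π₁, hπ₁, z, hz⟩ := hy.exists_refinement
    have := hZ k (k + 1) (Nat.le_succ k)
    obtain ⟨T₂, π₂, hπ₂, z', hz'⟩ :=
      surjective_up_to_refinements_of_epi (tr (Z : PS C) (Nat.le_succ k)) z
    set d := π₂ ≫ π₁ ≫ Z'.arrow.app (op (k + 1)) - z' ≫ Z.arrow.app (op (k + 1))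
    have hd : ImLE d (grOf Z' (k + 1)).arrow := by
      refine (imLE_grOf_iff _).2 ⟨?_, ?_⟩
      · exact (((ImLE.self_comp _ _).comp_left π₂)).sub
          ((ImLE.self_comp _ _).trans (imLE_app ((subobject_le_iff _ _).1 hle) _))
      · rw [imLE_Fsub_self_iff, Preadditive.sub_comp, Category.assoc, Category.assoc,
          Category.assoc, hz, tr_app, reassoc_of% hz', sub_self]
    have h1 := ((imLE_grOf_iff d).1 (hd.trans ((subobject_le_iff _ _).1 (h (k + 1))))).1
    refine ImLE.of_epi_left (π₂ ≫ π₁) ?_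
    have h2 := h1.add (ImLE.self_comp (Z.arrow.app (op (k + 1))) z')
    rw [sub_add_cancel] at h2
    rwa [Category.assoc]

/-- Increasing sequences of strict subsystems of an adic system with Noetherian components are
stationary. -/
theorem strictSub_chain_stationary [IsNoetherianRing A] (hX : IsAdicNoeth J X)
    (Z : ℕ →o Subobject X) (hZ : ∀ k : ℕ, IsStrict (Z k : PS C)) :
    ∃ k₀ : ℕ, ∀ k : ℕ, k₀ ≤ k → Z k = Z k₀ := by
  have hA := isAdapted_of_isAdic hX.1
  obtain ⟨i₀, hi₀⟩ := grSub_chain_stationary hX (fun i => grOf (Z i))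
    (fun i => isGrSub_grOf hA (hZ i)) (fun i j hij q => by
      rw [subobject_le_iff, imLE_grOf_iff]
      obtain ⟨h1, h2⟩ := (imLE_grOf_iff _).1 (ImLE.refl (grOf (Z i) q).arrow)
      exact ⟨h1.trans (imLE_app ((subobject_le_iff _ _).1 (Z.monotone hij)) _), h2⟩)
  exact ⟨i₀, fun k hk => le_antisymm
    (le_of_grOf_le (Z.monotone hk) (hZ i₀) fun q => (congrFun (hi₀ k hk) q).le) (Z.monotone hk)⟩

end Chain

end Groth.Agent.Lib.AR
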