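import Groth.Agent.Lib.AR.Elem
import Groth.Prelude.Def_ARSys

/-!
# Projective systems: transition maps, null systems, isomorphisms up to translation
-/

universe v u

open CategoryTheory CategoryTheory.Limits Opposite ARSys

namespace Groth.Agent.Lib.AR

variable {C : Type u} [Category.{v} C]

section Basic

variable {X Y : PS C}

@[reassoc (attr := simp)]
lemma tr_comp (X : PS C) {l m n : ℕ} (h₁ : l ≤ m) (h₂ : m ≤ n) :
    tr X h₂ ≫ tr X h₁ = tr X (h₁.trans h₂) := by
  rw [tr, tr, tr, ← X.map_comp]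
  rfl

@[simp]
lemma tr_self (X : PS C) {n : ℕ} (h : n ≤ n) : tr X h = 𝟙 _ := X.map_id _

@[reassoc]
lemma tr_app (f : X ⟶ Y) {n m : ℕ} (h : n ≤ m) :
    f.app (op m) ≫ tr Y h = tr X h ≫ f.app (op n) := (f.naturality _).symm

lemma isIso_tr_of_eq (X : PS C) {n m : ℕ} (h : n ≤ m) (e : m ≤ n) : IsIso (tr X h) :=
  ⟨tr X e, by simp, by simp⟩

/-- A morphism of systems from compatible components. -/
@[simps]
def natMk (app : ∀ n : ℕ, X.obj (op n) ⟶ Y.obj (op n))
    (h : ∀ n m (hnm : n ≤ m), app m ≫ tr Y hnm = tr X hnm ≫ app n) : X ⟶ Y where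
  app k := app k.unop
  naturality a b f := (h b.unop a.unop (leOfHom f.unop)).symm

lemma shift_tr (r : ℕ) (X : PS C) {n m : ℕ} (h : n ≤ m) :
    tr ((shift C r).obj X) h = tr X (Nat.add_le_add_right h r) := rfl

/-- The transition maps, as a morphism from the translated system. -/
def trNat (X : PS C) (r : ℕ) : (shift C r).obj X ⟶ X :=
  natMk (fun n => shiftMap X r n) fun n m h => (tr_comp X _ _).trans (tr_comp X _ _).symm

lemma trNat_app (X : PS C) (r n : ℕ) : (trNat X r).app (op n) = tr X (Nat.le_add_right n r) := rfl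

lemma epi_tr_of_isStrict (hX : IsStrict X) {n m : ℕ} (h : n ≤ m) : Epi (tr X h) := hX n m h

lemma isStrict_of_epi (f : X ⟶ Y) (hf : ∀ n, Epi (f.app (op n))) (hX : IsStrict X) :
    IsStrict Y := fun n m h => by
  have := hX n m h
  have := hf n
  have : Epi (f.app (op m) ≫ tr Y h) := by rw [tr_app]; infer_instance
  exact epi_of_epi (f.app (op m)) _

end Basic

variable [Abelian C] {X Y Z : PS C}

section Null

/-- All transition maps of length at least `r` vanish. -/
def NullBy (X : PS C) (r : ℕ) : Prop :=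
  ∀ n m (h : n ≤ m), n + r ≤ m → tr X h = 0

lemma isARNull_iff : IsARNull X ↔ ∃ r, NullBy X r := by
  refine ⟨fun ⟨r, hr⟩ => ⟨r, fun n m h hm => ?_⟩, fun ⟨r, hr⟩ => ⟨r, fun n => hr _ _ _ le_rfl⟩⟩
  have : tr X (Nat.le_add_right n r) = 0 := hr n
  rw [← tr_comp X (Nat.le_add_right n r) hm, this, comp_zero]

lemma NullBy.of_mono {r : ℕ} (hY : NullBy Y r) (f : X ⟶ Y) [Mono f] : NullBy X r :=
  fun n m h hm => by
    have := mono_app f (op n)
    rw [← cancel_mono (f.app (op n)), ← tr_app, hY n m h hm, comp_zero, zero_comp]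

lemma NullBy.of_epi {r : ℕ} (hX : NullBy X r) (f : X ⟶ Y) [Epi f] : NullBy Y r :=
  fun n m h hm => by
    have := epi_app f (op m)
    rw [← cancel_epi (f.app (op m)), tr_app, hX n m h hm, comp_zero, zero_comp]

lemma NullBy.of_exact {r s : ℕ} {S : ShortComplex (PS C)} (hS : S.Exact) [Mono S.f]
    (h₁ : NullBy S.X₁ r) (h₃ : NullBy S.X₃ s) : NullBy S.X₂ (r + s) := fun n m h hm => by
  have e : tr S.X₂ (show n + r ≤ m by omega) ≫ S.g.app (op (n + r)) = 0 := by
    rw [← tr_app, h₃ _ _ _ (by omega), comp_zero]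
  have := mono_app S.f (op (n + r))
  have := mono_app S.f (op n)
  let l := (exact_app hS (op (n + r))).lift _ e
  have hl : l ≫ S.f.app (op (n + r)) = tr S.X₂ _ := (exact_app hS (op (n + r))).lift_f _ e
  rw [← tr_comp S.X₂ (Nat.le_add_right n r) (show n + r ≤ m by omega), ← hl, Category.assoc,
    tr_app, h₁ _ _ _ le_rfl, zero_comp, comp_zero]

lemma isARNull_iff_of_shortExact {S : ShortComplex (PS C)} (hS : S.ShortExact) :
    IsARNull S.X₂ ↔ IsARNull S.X₁ ∧ IsARNull S.X₃ := by
  have := hS.mono_f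
  have := hS.epi_g
  simp only [isARNull_iff]
  exact ⟨fun ⟨r, hr⟩ => ⟨⟨r, hr.of_mono S.f⟩, ⟨r, hr.of_epi S.g⟩⟩,
    fun ⟨⟨r, hr⟩, ⟨s, hs⟩⟩ => ⟨r + s, hr.of_exact hS.exact hs⟩⟩

lemma isZero_of_isStrict_of_isARNull (hX : IsStrict X) (h : IsARNull X) (n : ℕ) :
    IsZero (X.obj (op n)) := by
  obtain ⟨r, hr⟩ := isARNull_iff.1 h
  have := hX n (n + r) (Nat.le_add_right n r)
  rw [IsZero.iff_id_eq_zero, ← cancel_epi (tr X (Nat.le_add_right n r)), comp_zero, Category.comp_id]
  exact hr _ _ _ le_rfl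

end Null

section Inv

/-- An inverse of `u` of degree `r`. -/
structure Inv (u : X ⟶ Y) (r : ℕ) where
  v : ∀ n, Y.obj (op (n + r)) ⟶ X.obj (op n)
  nat : ∀ n m (h : n ≤ m), v m ≫ tr X h = tr Y (Nat.add_le_add_right h r) ≫ v n
  vu : ∀ n, v n ≫ u.app (op n) = tr Y (Nat.le_add_right n r)
  uv : ∀ n, u.app (op (n + r)) ≫ v n = tr X (Nat.le_add_right n r)

attribute [reassoc] Inv.vu Inv.uv Inv.nat

/-- The components of an inverse up to translation, one by one. -/
def HasInv (u : X ⟶ Y) : Prop := ∃ r, ∀ n, ∃ v : Y.obj (op (n + r)) ⟶ X.obj (op n),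
  v ≫ u.app (op n) = tr Y (Nat.le_add_right n r) ∧
    u.app (op (n + r)) ≫ v = tr X (Nat.le_add_right n r)

lemma Inv.hasInv {u : X ⟶ Y} {r : ℕ} (i : Inv u r) : HasInv u :=
  ⟨r, fun n => ⟨i.v n, i.vu n, i.uv n⟩⟩

lemma HasInv.exists_inv {u : X ⟶ Y} (h : HasInv u) : ∃ r, Nonempty (Inv u r) := by
  obtain ⟨r, hr⟩ := h
  choose v hvu huv using hr
  refine ⟨r + r, ⟨{ v := fun n => tr Y (by omega) ≫ v (n + r) ≫ tr X (Nat.le_add_right n r)
                    nat := fun n m h => ?_
                    vu := fun n => ?_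
                    uv := fun n => ?_ }⟩⟩
  · simp only [Category.assoc, tr_comp]
    rw [← sub_eq_zero]
    have key : (tr Y (show m + r + r ≤ m + (r + r) by omega) ≫ v (m + r) ≫
        tr X (show n + r ≤ m + r by omega) -
        tr Y (show n + r + r ≤ m + (r + r) by omega) ≫ v (n + r)) ≫ tr X (Nat.le_add_right n r) =
        0 := by
      rw [← huv n, ← Category.assoc]
      have : (tr Y (show m + r + r ≤ m + (r + r) by omega) ≫ v (m + r) ≫
          tr X (show n + r ≤ m + r by omega) -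
          tr Y (show n + r + r ≤ m + (r + r) by omega) ≫ v (n + r)) ≫ u.app (op (n + r)) = 0 := by
        simp only [Preadditive.sub_comp, Category.assoc]
        rw [← tr_app, ← Category.assoc (v (m + r)), hvu, hvu]
        simp
      rw [this, zero_comp]
    rw [Preadditive.sub_comp] at key
    simpa [Category.assoc] using key
  · simp only [Category.assoc]
    rw [← tr_app, ← Category.assoc (v (n + r)), hvu]
    simp
  · rw [tr_app_assoc, ← Category.assoc (u.app _), huv]
    simp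

lemma HasInv.isARIso {u : X ⟶ Y} (h : HasInv u) : IsARIso u := by
  obtain ⟨r, hr⟩ := h
  refine ⟨⟨r, fun n => ?_⟩, ⟨r, fun n => ?_⟩⟩
  · obtain ⟨v, -, huv⟩ := hr n
    have := mono_app (kernel.ι u) (op n)
    show tr (kernel u) (Nat.le_add_right n r) = 0
    rw [← cancel_mono ((kernel.ι u).app (op n)), ← tr_app, ← huv, ← Category.assoc,
      ← NatTrans.comp_app, kernel.condition]
    simp
  · obtain ⟨v, hvu, -⟩ := hr n
    have := epi_app (cokernel.π u) (op (n + r))
    show tr (cokernel u) (Nat.le_add_right n r) = 0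
    rw [← cancel_epi ((cokernel.π u).app (op (n + r))), tr_app, ← hvu, Category.assoc,
      ← NatTrans.comp_app, cokernel.condition]
    simp

lemma hasInv_of_imLE {u : X ⟶ Y} {a b : ℕ}
    (hker : ∀ n (T : C) (k : T ⟶ X.obj (op (n + a))), k ≫ u.app (op (n + a)) = 0 →
      k ≫ tr X (Nat.le_add_right n a) = 0)
    (him : ∀ n, ImLE (tr Y (Nat.le_add_right n b)) (u.app (op n))) : HasInv u := by
  refine ⟨b + a, fun n => ?_⟩
  obtain ⟨T, π, hπ, z, hz⟩ := (him (n + a)).exists_refinement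
  have hex := ShortComplex.exact_of_f_is_kernel (ShortComplex.mk (kernel.ι π) π (kernel.condition π))
    (kernelIsKernel π)
  have hzero : kernel.ι π ≫ (z ≫ tr X (Nat.le_add_right n a)) = 0 := by
    rw [← Category.assoc]
    refine hker n _ _ ?_
    rw [Category.assoc, ← hz, kernel.condition_assoc, zero_comp]
  have : Epi (ShortComplex.mk (kernel.ι π) π (kernel.condition π)).g := hπ
  let d : Y.obj (op (n + a + b)) ⟶ X.obj (op n) := hex.desc _ hzero
  have hd : π ≫ d = z ≫ tr X (Nat.le_add_right n a) := hex.g_desc _ hzero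
  refine ⟨tr Y (show n + a + b ≤ n + (b + a) by omega) ≫ d, ?_, ?_⟩
  · rw [Category.assoc]
    have : d ≫ u.app (op n) = tr Y (show n ≤ n + a + b by omega) := by
      rw [← cancel_epi π, ← Category.assoc, hd, Category.assoc, ← tr_app, ← Category.assoc, ← hz,
        Category.assoc, tr_comp]
    rw [this, tr_comp]
  · have key : u.app (op (n + a + b)) ≫ d = tr X (show n ≤ n + a + b by omega) := by
      obtain ⟨T', π', hπ', z', hz'⟩ := surjective_up_to_refinements_of_epi π (u.app (op (n + a + b)))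
      rw [← cancel_epi π', ← Category.assoc, hz', Category.assoc, hd, ← sub_eq_zero,
        ← tr_comp X (Nat.le_add_right n a) (Nat.le_add_right (n + a) b), ← Category.assoc,
        ← Category.assoc, ← Preadditive.sub_comp]
      refine hker n _ _ ?_
      rw [Preadditive.sub_comp, Category.assoc, Category.assoc, ← hz, ← Category.assoc z',
        ← hz', ← tr_app, Category.assoc, sub_self]
    rw [tr_app_assoc, key, tr_comp]

lemma isARIso_iff_hasInv {u : X ⟶ Y} : IsARIso u ↔ HasInv u := by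
  refine ⟨fun ⟨h₁, h₂⟩ => ?_, HasInv.isARIso⟩
  obtain ⟨a, ha⟩ := isARNull_iff.1 h₁
  obtain ⟨b, hb⟩ := isARNull_iff.1 h₂
  refine hasInv_of_imLE (a := a) (b := b) (fun n T k hk => ?_) (fun n => ?_)
  · have hex := exact_app (ShortComplex.exact_of_f_is_kernel
      (ShortComplex.mk (kernel.ι u) u (kernel.condition u)) (kernelIsKernel u)) (op (n + a))
    have := mono_app (kernel.ι u) (op (n + a))
    rw [← (hex.lift_f k hk : hex.lift k hk ≫ (kernel.ι u).app _ = k), Category.assoc, tr_app,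
      ha _ _ _ le_rfl, zero_comp, comp_zero]
  · have hex := exact_app (ShortComplex.exact_of_g_is_cokernel
      (ShortComplex.mk u (cokernel.π u) (cokernel.condition u)) (cokernelIsCokernel u)) (op n)
    have e : tr Y (Nat.le_add_right n b) ≫ (cokernel.π u).app (op n) = 0 := by
      rw [← tr_app, hb _ _ _ le_rfl, comp_zero]
    obtain ⟨T, π, hπ, z, hz⟩ := hex.exact_up_to_refinements _ e
    exact ImLE.of_refinement π z hz

lemma exists_inv_of_isARIso {u : X ⟶ Y} (h : IsARIso u) : ∃ r, Nonempty (Inv u r) :=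
  (isARIso_iff_hasInv.1 h).exists_inv

lemma Inv.isARIso {u : X ⟶ Y} {r : ℕ} (i : Inv u r) : IsARIso u := i.hasInv.isARIso

lemma isARIso_comp {u : X ⟶ Y} {w : Y ⟶ Z} (hu : IsARIso u) (hw : IsARIso w) :
    IsARIso (u ≫ w) := by
  obtain ⟨r, ⟨i⟩⟩ := exists_inv_of_isARIso hu
  obtain ⟨s, ⟨j⟩⟩ := exists_inv_of_isARIso hw
  refine HasInv.isARIso ⟨r + s, fun n =>
    ⟨tr Z (show n + r + s ≤ n + (r + s) by omega) ≫ j.v (n + r) ≫ i.v n, ?_, ?_⟩⟩
  · simp only [NatTrans.comp_app, Category.assoc]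
    rw [i.vu_assoc, ← tr_app, ← Category.assoc (j.v (n + r)), j.vu]
    simp
  · simp only [NatTrans.comp_app, Category.assoc]
    rw [tr_app_assoc, j.uv_assoc, tr_comp_assoc, tr_app_assoc, i.uv]
    simp

lemma isARIso_of_isIso (u : X ⟶ Y) [IsIso u] : IsARIso u :=
  HasInv.isARIso ⟨0, fun n => ⟨(inv u).app (op n), by simp, by simp⟩⟩

lemma trNat_isARIso (X : PS C) (r : ℕ) : IsARIso (trNat X r) :=
  HasInv.isARIso ⟨r, fun n => ⟨𝟙 _, Category.id_comp _, (Category.comp_id _).trans (shift_tr r X _).symm⟩⟩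

end Inv

end Groth.Agent.Lib.AR
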